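import Cfsg.Agent.Lib.LargeReeAut.Generic
import Cfsg.Agent.Lib.TwistedStr.Card

/-!
# Conjugates in the opposite big cell for a twisted group with orbit data

Each element is conjugate to `v * h * u`; a Levi group moves the torus part inside a coset of the
part of the torus centralising a chosen element.
-/

set_option autoImplicit false
set_option linter.unusedSectionVars false

namespace CfsgLib.LargeReeSquare

open Cfsg.Lie CfsgLib.ChevStr CfsgLib.Twisted CfsgLib.TwistAut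
open scoped MatrixGroups

variable {D : ChevalleyDatum} {F : Type*} [Field F] {C : ChevCore D F} {φ : Frob C} {I : Type}
  {O : OrbitData C.R φ.ρ I} {G1 : Subgroup (GL D.Idx F)} {d : ℕ} [Fintype F] (g : Gens φ O G1 d)

/-- The orbit group. -/
noncomputable def pX (_g : Gens φ O G1 d) (i : I) : Subgroup (GL D.Idx F) :=
  φ.fixU (inRoots C.R (O.J i))

/-- The opposite orbit group. -/
noncomputable def nX (_g : Gens φ O G1 d) (i : I) : Subgroup (GL D.Idx F) :=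
  φ.fixU (negRootsIn C.R (O.J i))

/-- The Levi group with the whole torus. -/
noncomputable def lev (i : I) : Subgroup (GL D.Idx F) := pX g i ⊔ nX g i ⊔ tor G1

/-- The positive complement of an orbit. -/
noncomputable def outU (_g : Gens φ O G1 d) (i : I) : Subgroup (GL D.Idx F) :=
  C.Ucl (outRoots C.R (O.J i)) ⊓ G1

include g

theorem pX_le_pU (i : I) : pX g i ≤ pU G1 := fixU_in_le g i

theorem pX_le (i : I) : pX g i ≤ G1 := g.pos_le i

theorem nX_le (i : I) : nX g i ≤ G1 := fun _ hx => (negIn_le g i hx).2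

theorem lev_le (i : I) : lev g i ≤ G1 :=
  sup_le (sup_le (pX_le g i) (nX_le g i)) inf_le_right

theorem pX_le_lev (i : I) : pX g i ≤ lev g i := le_sup_left.trans le_sup_left

theorem nX_le_lev (i : I) : nX g i ≤ lev g i := le_sup_right.trans le_sup_left

theorem tor_le_lev (i : I) : tor G1 ≤ lev g i := le_sup_right

theorem tor_comm {a b : GL D.Idx F} (ha : a ∈ tor G1) (hb : b ∈ tor G1) : Commute a b := by
  obtain ⟨c, hc⟩ : a ∈ C.R.torus.range := C.diagonalSubgroup_eq ▸ ha.1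
  obtain ⟨e, he⟩ : b ∈ C.R.torus.range := C.diagonalSubgroup_eq ▸ hb.1
  show a * b = b * a
  rw [← hc, ← he, ← map_mul, ← map_mul, mul_comm]

theorem tor_pX (i : I) {h x : GL D.Idx F} (hh : h ∈ tor G1) (hx : x ∈ pX g i) :
    h * x * h⁻¹ ∈ pX g i := LargeReeAut.tor_conj g hh _ hx

theorem tor_nX (i : I) {h x : GL D.Idx F} (hh : h ∈ tor G1) (hx : x ∈ nX g i) :
    h * x * h⁻¹ ∈ nX g i := LargeReeAut.tor_conj g hh _ hx

theorem tor_pU {h x : GL D.Idx F} (hh : h ∈ tor G1) (hx : x ∈ pU G1) : h * x * h⁻¹ ∈ pU G1 :=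
  ⟨(Subgroup.mem_normalizer_iff.1 (C.diagonal_normalizes_pos hh.1) _).1 hx.1,
    mul_mem (mul_mem hh.2 hx.2) (G1.inv_mem hh.2)⟩

theorem lev_deg0 (i : I) : lev g i ≤ deg0Sub C (O.J i) :=
  sup_le (sup_le (inf_le_left.trans (C.Ucl_le fun _ hr t => xGL_deg0 C _ hr.2 t))
    (inf_le_left.trans (C.Ucl_le fun _ hr t => xGL_deg0 C _ hr.2 t)))
    fun _ hh => LargeReeAut.tor_deg0 _ hh.1

theorem lev_le_para (i : I) : lev g i ≤ para g i :=
  sup_le (sup_le (fun _ hx => Or.inl (pU_le_bor _ (fixU_in_le g i hx))) (negIn_le_para g i))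
    fun _ hx => Or.inl (tor_le_bor _ hx)

theorem bor_lev (i : I) {x : GL D.Idx F} (hx : x ∈ bor G1) (h0 : x ∈ deg0Sub C (O.J i)) :
    ∃ y ∈ pX g i, ∃ h ∈ tor G1, x = y * h := by
  obtain ⟨u, hu, h, hh, rfl⟩ := g.twist.mem_B_inf.1 hx
  change u ∈ pU G1 at hu
  change h ∈ tor G1 at hh
  obtain ⟨a, ha, c, hc, rfl⟩ := exists_split C (O.J i) hu.1
  have ha0 : a ∈ deg0Sub C (O.J i) := C.Ucl_le (fun r hr t => xGL_deg0 C _ hr.2 t) ha
  have hc0 : c ∈ deg0Sub C (O.J i) := by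
    have e : c = a⁻¹ * (a * c * h) * h⁻¹ := by group
    rw [e]
    exact mul_mem (mul_mem (inv_mem ha0) h0) (inv_mem (LargeReeAut.tor_deg0 _ hh.1))
  obtain rfl := out_deg0_eq_one C _ hc hc0
  rw [mul_one] at hu ⊢
  exact ⟨a, Subgroup.mem_inf.2 ⟨ha, g.le_fixed hu.2⟩, h, hh, rfl⟩

theorem lev_cases (i : I) {x : GL D.Idx F} (hx : x ∈ lev g i) :
    (∃ y ∈ pX g i, ∃ h ∈ tor G1, x = y * h) ∨
      ∃ y ∈ pX g i, ∃ h ∈ tor G1, ∃ t ∈ pX g i, x = y * h * g.s i * t := by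
  rcases (mem_para g).1 (lev_le_para g i hx) with hb | hc
  · exact Or.inl (bor_lev g i hb (lev_deg0 g i hx))
  · obtain ⟨t, ht, hb⟩ := exists_param g hc
    have h0 : x * (g.s i * t)⁻¹ ∈ deg0Sub C (O.J i) :=
      mul_mem (lev_deg0 g i hx) (inv_mem (mul_mem
        (monomial_deg0 C _ (g.s_mem_N i) (g.s_moves i) (g.wJ_mem i))
        (lev_deg0 g i (pX_le_lev g i ht))))
    obtain ⟨y, hy, h, hh, e⟩ := bor_lev g i hb h0
    exact Or.inr ⟨y, hy, h, hh, t, ht, by rw [← e]; group⟩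

/-- A Levi group is the product of orbit group, torus, opposite orbit group and orbit group. -/
theorem lev_form (i : I) {x : GL D.Idx F} (hx : x ∈ lev g i) :
    ∃ a ∈ pX g i, ∃ h ∈ tor G1, ∃ y ∈ nX g i, ∃ b ∈ pX g i, x = a * h * y * b := by
  rcases lev_cases g i hx with ⟨y, hy, h, hh, rfl⟩ | ⟨y, hy, h, hh, t, ht, rfl⟩
  · exact ⟨y, hy, h, hh, 1, one_mem _, 1, one_mem _, by group⟩
  · obtain ⟨a, ha, hne⟩ := exists_in_ne_one g i
    obtain ⟨y0, hy0, h0, hh0, t0, ht0, e⟩ := LargeReeAut.exists_levi g i (conj_in_mem g i ha)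
      fun e => hne (conj_eq_one_iff.1 e)
    set v := g.s i * a * (g.s i)⁻¹
    refine ⟨y * (h * (h0⁻¹ * y0⁻¹ * h0) * h⁻¹), mul_mem hy (tor_pX g i hh (by
      simpa using tor_pX g i (inv_mem hh0) (inv_mem hy0))), h * h0⁻¹, mul_mem hh (inv_mem hh0), v,
      conj_in_mem g i ha, t0⁻¹ * t, mul_mem (inv_mem ht0) ht, ?_⟩
    rw [e]
    group

theorem upper_split (i : I) {u : GL D.Idx F} (hu : u ∈ pU G1) :
    ∃ a ∈ pX g i, ∃ c ∈ outU g i, u = a * c := by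
  obtain ⟨a, ha, c, hc, rfl⟩ := exists_split C (O.J i) hu.1
  obtain ⟨haf, -⟩ := O.split_fixed i ha hc (g.le_fixed hu.2)
  have haX : a ∈ pX g i := Subgroup.mem_inf.2 ⟨ha, haf⟩
  refine ⟨a, haX, c, ⟨hc, ?_⟩, rfl⟩
  simpa using mul_mem (inv_mem (pX_le g i haX)) hu.2

theorem outU_le (i : I) : outU g i ≤ pU G1 := inf_le_inf_right _ (Ucl_out_le C _)

theorem lev_outU (i : I) {s c : GL D.Idx F} (hs : s ∈ lev g i) (hc : c ∈ outU g i) :
    s * c * s⁻¹ ∈ outU g i := by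
  refine ⟨?_, mul_mem (mul_mem (lev_le g i hs) hc.2) (G1.inv_mem (lev_le g i hs))⟩
  set S := C.Ucl (outRoots C.R (O.J i))
  have hX : pX g i ≤ Subgroup.normalizer (S : Set (GL D.Idx F)) :=
    inf_le_left.trans (C.Ucl_le fun r hr t =>
      C.pos_normalizes hr.1 (fun s hs => hs.1) (fun s hs k hk => combo_out C _ hr.1 hs hk) t)
  have hs' : g.s i ∈ Subgroup.normalizer (S : Set (GL D.Idx F)) := by
    rw [Subgroup.mem_normalizer_iff]
    refine fun x => ⟨fun hx => conj_out (g.s_moves i) (g.wJ_mem i) x hx, fun hx => ?_⟩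
    have := conj_out (ChevCore.Moves.inv C (g.s_mem_N i) (g.s_moves i)) (inv_mem (g.wJ_mem i)) _ hx
    simpa [mul_assoc] using this
  have hT : tor G1 ≤ Subgroup.normalizer (S : Set (GL D.Idx F)) := fun h hh =>
    C.torus_normalizes _ (C.diagonalSubgroup_eq ▸ hh.1)
  have hY : nX g i ≤ Subgroup.normalizer (S : Set (GL D.Idx F)) := fun y hy => by
    obtain ⟨a, ha, rfl⟩ := LargeReeAut.exists_pre_pos g i hy
    exact mul_mem (mul_mem hs' (hX ha)) (inv_mem hs')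
  exact (Subgroup.mem_normalizer_iff.1 (sup_le (sup_le hX hY) hT hs) c).1 hc.1

/-- The opposite orbit group lies in the cell of a representative `N` of the reflection. -/
theorem lev_cell (i : I) {z N : GL D.Idx F} (hN : N ∈ lev g i) (hNm : N ∈ D.monomialSubgroup F)
    (hNmv : C.Moves N (g.wJ i)) (hNz : Commute N z) (hXz : ∀ a ∈ pX g i, Commute a z)
    (hYz : ∀ a ∈ nX g i, Commute a z) :
    ∀ y ∈ nX g i, y ≠ 1 → ∃ a ∈ pX g i, ∃ t ∈ tor G1, Commute t z ∧ ∃ b ∈ pX g i,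
      y = a * (N * t) * b := by
  have hNG : N ∈ G1 := lev_le g i hN
  intro y hy hy1
  obtain ⟨a, ha, k, hk, b, hb, e⟩ := LargeReeAut.exists_levi g i hy hy1
  have hd : N⁻¹ * g.s i ∈ tor G1 := by
    refine ⟨C.mem_diagonal_of_moves_one (mul_mem (inv_mem hNm) (g.s_mem_N i)) ?_,
      mul_mem (G1.inv_mem hNG) (g.s_mem i)⟩
    have := ChevCore.Moves.mul C (ChevCore.Moves.inv C hNm hNmv) (g.s_moves i)
    rwa [inv_mul_cancel] at this
  have hk' : N⁻¹ * k * N ∈ tor G1 :=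
    ⟨by simpa using C.conj_diagonal_mem (inv_mem hNm) hk.1, mul_mem (mul_mem (G1.inv_mem hNG) hk.2) hNG⟩
  have e' : y = a * (N * (N⁻¹ * k * N * (N⁻¹ * g.s i))) * b := by rw [e]; group
  refine ⟨a, ha, _, mul_mem hk' hd, ?_, b, hb, e'⟩
  have ht : N⁻¹ * k * N * (N⁻¹ * g.s i) = N⁻¹ * (a⁻¹ * y * b⁻¹) := by rw [e]; group
  rw [ht]
  exact (hNz.inv_left).mul_left (((hXz a ha).inv_left.mul_left (hYz y hy)).mul_left (hXz b hb).inv_left)

/-- The diagonal parts of the cell of `N` fill the part of the torus centralising `z`. -/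
theorem lev_surj (i : I) {z N : GL D.Idx F} (hN : N ∈ lev g i) (hNm : N ∈ D.monomialSubgroup F)
    (hNmv : C.Moves N (g.wJ i)) (hNz : Commute N z) (hXz : ∀ a ∈ pX g i, Commute a z)
    (hYz : ∀ a ∈ nX g i, Commute a z)
    (hfree : ∀ t ∈ tor G1, Commute t z → Commute t N → t = 1) :
    ∀ r ∈ tor G1, Commute r z → ∃ x ∈ pX g i, ∃ y ∈ nX g i, ∃ b ∈ pX g i, x * N = y * r * b := by
  classical
  intro r hr hrz
  have hNG : N ∈ G1 := lev_le g i hN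
  obtain ⟨a0, ha0, hne⟩ := exists_in_ne_one g i
  have hy : N * a0 * N⁻¹ ∈ nX g i := Subgroup.mem_inf.2
    ⟨conj_in hNmv (g.wJ_mem i) (g.wJ_neg i) a0 (Subgroup.mem_inf.1 ha0).1,
      mul_mem (mul_mem (g.le_fixed hNG) (Subgroup.mem_inf.1 ha0).2) (inv_mem (g.le_fixed hNG))⟩
  obtain ⟨a, ha, t, ht, htz, b, hb, e⟩ :=
    lev_cell g i hN hNm hNmv hNz hXz hYz _ hy fun e => hne (conj_eq_one_iff.1 e)
  let S := {r : GL D.Idx F // r ∈ tor G1 ∧ Commute r z}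
  have hk : ∀ r : S, N⁻¹ * r.1⁻¹ * N ∈ tor G1 := fun r =>
    ⟨by simpa using C.conj_diagonal_mem (inv_mem hNm) (inv_mem r.2.1).1,
      mul_mem (mul_mem (G1.inv_mem hNG) (G1.inv_mem r.2.1.2)) hNG⟩
  let f : S → S := fun r => ⟨r.1 * (N⁻¹ * r.1⁻¹ * N), mul_mem r.2.1 (hk r),
    r.2.2.mul_left ((hNz.inv_left.mul_left r.2.2.inv_left).mul_left hNz)⟩
  have hinj : Function.Injective f := by
    intro r1 r2 e12
    have e' : r1.1 * (N⁻¹ * r1.1⁻¹ * N) = r2.1 * (N⁻¹ * r2.1⁻¹ * N) := congrArg Subtype.val e12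
    have h1 := hfree (r2.1⁻¹ * r1.1) (mul_mem (inv_mem r2.2.1) r1.2.1)
      (r2.2.2.inv_left.mul_left r1.2.2) (by
        show r2.1⁻¹ * r1.1 * N = N * (r2.1⁻¹ * r1.1)
        have hk1 : N⁻¹ * r1.1⁻¹ * N = r1.1⁻¹ * (r2.1 * (N⁻¹ * r2.1⁻¹ * N)) := by rw [← e']; group
        calc r2.1⁻¹ * r1.1 * N = N * (N⁻¹ * r2.1⁻¹ * N * (N⁻¹ * r1.1⁻¹ * N)⁻¹) := by group
          _ = _ := by rw [hk1]; group)
    exact Subtype.ext (inv_mul_eq_one.1 h1).symm
  obtain ⟨⟨r0, hr0, hr0z⟩, e0⟩ := Finite.surjective_of_injective hinj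
    ⟨r * t, mul_mem hr ht, hrz.mul_left htz⟩
  have e1 : r0 * (N⁻¹ * r0⁻¹ * N) = r * t := congrArg Subtype.val e0
  have hk' := hk ⟨r0, hr0, hr0z⟩
  set k := N⁻¹ * r0⁻¹ * N with hkdef
  refine ⟨r0 * a * r0⁻¹, tor_pX g i hr0 ha, r0 * (N * a0 * N⁻¹) * r0⁻¹, tor_nX g i hr0 hy,
    (k⁻¹ * t) * b⁻¹ * (k⁻¹ * t)⁻¹, tor_pX g i (mul_mem (inv_mem hk') ht) (inv_mem hb), ?_⟩
  have hrk : r = r0 * t⁻¹ * k := by
    calc r = r0 * k * t⁻¹ := by rw [e1]; group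
      _ = _ := by rw [mul_assoc, (tor_comm g hk' (inv_mem ht)).eq, ← mul_assoc]
  rw [hrk, e, hkdef]
  group

section opposite

variable {n0 : GL D.Idx F} {w0 : Equiv.Perm (Fin D.nroots)} (hn0 : n0 ∈ D.monomialSubgroup F)
  (hn1 : n0 ∈ G1) (hmv : C.Moves n0 w0) (hw0 : ∀ s : Fin D.nroots, (w0 s : ℕ) = D.neg s)

/-- The opposite complement of an orbit. -/
noncomputable def outV (g : Gens φ O G1 d) (n0 : GL D.Idx F) (i : I) : Subgroup (GL D.Idx F) :=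
  (outU g i).comap (MulAut.conj n0⁻¹).toMonoidHom

omit [Fintype F] in
theorem mem_outV {i : I} {x : GL D.Idx F} : x ∈ outV g n0 i ↔ n0⁻¹ * x * n0 ∈ outU g i := by
  show (MulAut.conj n0⁻¹) x ∈ outU g i ↔ _
  rw [MulAut.conj_apply, inv_inv]

include hn0 hn1 hmv hw0

theorem w0_inv : C.Moves n0⁻¹ w0⁻¹ ∧ ∀ s : Fin D.nroots, ((w0⁻¹ : Equiv.Perm _) s : ℕ) = D.neg s := by
  refine ⟨ChevCore.Moves.inv C hn0 hmv, fun s => ?_⟩
  have h : w0 ⟨D.neg s, C.R.neg_lt s s.isLt⟩ = s := Fin.ext (by rw [hw0, C.R.neg_neg _ s.isLt])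
  rw [show (w0⁻¹ : Equiv.Perm _) s = ⟨D.neg s, C.R.neg_lt s s.isLt⟩ from
    (Equiv.Perm.inv_eq_iff_eq).2 h.symm]

theorem n0_pU {x : GL D.Idx F} (hx : x ∈ pU G1) : n0 * x * n0⁻¹ ∈ nU G1 :=
  ⟨C.conj_Ucl_le hmv (S := {r | D.IsPosRoot r}) (T := D.negUnipotent F)
    (fun s hs t => C.xGL_mem_negUnipotent (by rw [hw0]; exact (C.R.isNeg_neg_iff s.isLt).2 hs) t) x
      (C.posUnipotent_eq ▸ hx.1),
    mul_mem (mul_mem hn1 hx.2) (G1.inv_mem hn1)⟩

theorem n0_nU {x : GL D.Idx F} (hx : x ∈ nU G1) : n0⁻¹ * x * n0 ∈ pU G1 := by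
  obtain ⟨hmv', hw'⟩ := w0_inv g hn0 hn1 hmv hw0
  have h := C.conj_Ucl_le hmv' (S := {r | D.IsNegRoot r}) (T := D.posUnipotent F)
    (fun s hs t => C.xGL_mem_posUnipotent (by rw [hw']; exact (C.R.isPos_neg_iff s.isLt).2 hs) t) x
      (C.negUnipotent_eq ▸ hx.1)
  rw [inv_inv] at h
  exact ⟨h, mul_mem (mul_mem (G1.inv_mem hn1) hx.2) hn1⟩

theorem n0_pX (i : I) {x : GL D.Idx F} (hx : x ∈ pX g i) :
    n0 * x * n0⁻¹ ∈ nX g i ∧ n0⁻¹ * x * n0 ∈ nX g i := by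
  obtain ⟨hx1, hx2⟩ := Subgroup.mem_inf.1 hx
  obtain ⟨hmv', hw'⟩ := w0_inv g hn0 hn1 hmv hw0
  have key : ∀ {n : GL D.Idx F} {w : Equiv.Perm (Fin D.nroots)}, C.Moves n w →
      (∀ s : Fin D.nroots, (w s : ℕ) = D.neg s) → n ∈ G1 → n * x * n⁻¹ ∈ nX g i := fun hm hw hn =>
    Subgroup.mem_inf.2 ⟨C.conj_Ucl_le hm (T := C.Ucl (negRootsIn C.R (O.J i))) (fun s hs t =>
      C.xGL_mem_Ucl (show _ ∈ negRootsIn C.R (O.J i) by
        rw [hw]
        exact ⟨(C.R.isNeg_neg_iff s.isLt).2 hs.1, fun m hm => by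
          rw [C.R.α_neg _ s.isLt, Pi.neg_apply, hs.2 m hm, neg_zero]⟩) t) x hx1,
      mul_mem (mul_mem (g.le_fixed hn) hx2) (inv_mem (g.le_fixed hn))⟩
  exact ⟨key hmv hw0 hn1, by simpa using key hmv' hw' (inv_mem hn1)⟩

theorem n0_nX (i : I) {x : GL D.Idx F} (hx : x ∈ nX g i) :
    n0 * x * n0⁻¹ ∈ pX g i ∧ n0⁻¹ * x * n0 ∈ pX g i := by
  obtain ⟨hx1, hx2⟩ := Subgroup.mem_inf.1 hx
  obtain ⟨hmv', hw'⟩ := w0_inv g hn0 hn1 hmv hw0
  have key : ∀ {n : GL D.Idx F} {w : Equiv.Perm (Fin D.nroots)}, C.Moves n w →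
      (∀ s : Fin D.nroots, (w s : ℕ) = D.neg s) → n ∈ G1 → n * x * n⁻¹ ∈ pX g i := fun hm hw hn =>
    Subgroup.mem_inf.2 ⟨C.conj_Ucl_le hm (T := C.Ucl (inRoots C.R (O.J i))) (fun s hs t =>
      C.xGL_mem_Ucl (show _ ∈ inRoots C.R (O.J i) by
        rw [hw]
        exact ⟨(C.R.isPos_neg_iff s.isLt).2 hs.1, fun m hm => by
          rw [C.R.α_neg _ s.isLt, Pi.neg_apply, hs.2 m hm, neg_zero]⟩) t) x hx1,
      mul_mem (mul_mem (g.le_fixed hn) hx2) (inv_mem (g.le_fixed hn))⟩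
  exact ⟨key hmv hw0 hn1, by simpa using key hmv' hw' (inv_mem hn1)⟩

theorem n0_tor {h : GL D.Idx F} (hh : h ∈ tor G1) :
    n0 * h * n0⁻¹ ∈ tor G1 ∧ n0⁻¹ * h * n0 ∈ tor G1 := by
  refine ⟨⟨C.conj_diagonal_mem hn0 hh.1, mul_mem (mul_mem hn1 hh.2) (G1.inv_mem hn1)⟩, ?_,
    mul_mem (mul_mem (G1.inv_mem hn1) hh.2) hn1⟩
  simpa using C.conj_diagonal_mem (inv_mem hn0) hh.1

theorem n0_lev (i : I) {s : GL D.Idx F} (hs : s ∈ lev g i) :
    n0 * s * n0⁻¹ ∈ lev g i ∧ n0⁻¹ * s * n0 ∈ lev g i := by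
  have h1 : lev g i ≤ (lev g i).comap (MulAut.conj n0).toMonoidHom :=
    sup_le (sup_le (fun x hx => nX_le_lev g i (n0_pX g hn0 hn1 hmv hw0 i hx).1)
      (fun x hx => pX_le_lev g i (n0_nX g hn0 hn1 hmv hw0 i hx).1))
      fun x hx => tor_le_lev g i (n0_tor g hn0 hn1 hmv hw0 hx).1
  have h2 : lev g i ≤ (lev g i).comap (MulAut.conj n0⁻¹).toMonoidHom :=
    sup_le (sup_le (fun x hx => by
        show (MulAut.conj n0⁻¹) x ∈ lev g i
        rw [MulAut.conj_apply, inv_inv]; exact nX_le_lev g i (n0_pX g hn0 hn1 hmv hw0 i hx).2)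
      (fun x hx => by
        show (MulAut.conj n0⁻¹) x ∈ lev g i
        rw [MulAut.conj_apply, inv_inv]; exact pX_le_lev g i (n0_nX g hn0 hn1 hmv hw0 i hx).2))
      fun x hx => by
        show (MulAut.conj n0⁻¹) x ∈ lev g i
        rw [MulAut.conj_apply, inv_inv]; exact tor_le_lev g i (n0_tor g hn0 hn1 hmv hw0 hx).2
  refine ⟨h1 hs, ?_⟩
  have h := h2 hs
  change (MulAut.conj n0⁻¹) s ∈ lev g i at h
  rwa [MulAut.conj_apply, inv_inv] at h

theorem lev_outV (i : I) {s c : GL D.Idx F} (hs : s ∈ lev g i) (hc : c ∈ outV g n0 i) :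
    s * c * s⁻¹ ∈ outV g n0 i := by
  rw [mem_outV] at hc ⊢
  have h := lev_outU g i (n0_lev g hn0 hn1 hmv hw0 i hs).2 hc
  simpa [mul_assoc] using h

theorem outV_le (i : I) : outV g n0 i ≤ nU G1 := fun x hx => by
  have h := n0_pU g hn0 hn1 hmv hw0 (outU_le g i ((mem_outV g).1 hx))
  simpa [mul_assoc] using h

theorem low_split (i : I) {v : GL D.Idx F} (hv : v ∈ nU G1) :
    ∃ y ∈ nX g i, ∃ w ∈ outV g n0 i, v = y * w := by
  obtain ⟨a, ha, c, hc, e⟩ := upper_split g i (n0_nU g hn0 hn1 hmv hw0 hv)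
  refine ⟨n0 * a * n0⁻¹, (n0_pX g hn0 hn1 hmv hw0 i ha).1, n0 * c * n0⁻¹, by
    rw [mem_outV]; simpa [mul_assoc] using hc, ?_⟩
  calc v = n0 * (n0⁻¹ * v * n0) * n0⁻¹ := by group
    _ = _ := by rw [e]; group

theorem tor_nU {h x : GL D.Idx F} (hh : h ∈ tor G1) (hx : x ∈ nU G1) : h * x * h⁻¹ ∈ nU G1 := by
  have h1 := n0_pU g hn0 hn1 hmv hw0 (tor_pU g (n0_tor g hn0 hn1 hmv hw0 hh).2
    (n0_nU g hn0 hn1 hmv hw0 hx))
  simpa [mul_assoc] using h1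

theorem nX_le_nU (i : I) : nX g i ≤ nU G1 := negIn_le g i

/-- Every element of the group is a product of upper, diagonal, lower and upper elements. -/
theorem exists_UHVU (hgen : G1 ≤ ⨆ i, lev g i) {x : GL D.Idx F} (hx : x ∈ G1) :
    ∃ u ∈ pU G1, ∃ h ∈ tor G1, ∃ v ∈ nU G1, ∃ u' ∈ pU G1, x = u * h * v * u' := by
  have step : ∀ i, ∀ s ∈ lev g i, ∀ y, (∃ u ∈ pU G1, ∃ h ∈ tor G1, ∃ v ∈ nU G1, ∃ u' ∈ pU G1,
      y = u * h * v * u') → ∃ u ∈ pU G1, ∃ h ∈ tor G1, ∃ v ∈ nU G1, ∃ u' ∈ pU G1,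
      s * y = u * h * v * u' := by
    rintro i s hs _ ⟨u, hu, h, hh, v, hv, u', hu', rfl⟩
    obtain ⟨a, ha, c, hc, rfl⟩ := upper_split g i hu
    obtain ⟨y, hy, w, hw, rfl⟩ := low_split g hn0 hn1 hmv hw0 i hv
    obtain ⟨a1, ha1, h1, hh1, y1, hy1, b1, hb1, e⟩ := lev_form g i
      (mul_mem (mul_mem (mul_mem hs (pX_le_lev g i ha)) (tor_le_lev g i hh)) (nX_le_lev g i hy))
    have hc' : (s * a) * c * (s * a)⁻¹ ∈ outU g i := lev_outU g i (mul_mem hs (pX_le_lev g i ha)) hc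
    refine ⟨(s * a) * c * (s * a)⁻¹ * a1, mul_mem (outU_le g i hc') (pX_le_pU g i ha1), h1, hh1,
      y1 * (b1 * w * b1⁻¹), mul_mem (nX_le_nU g hn0 hn1 hmv hw0 i hy1)
        (outV_le g hn0 hn1 hmv hw0 i (lev_outV g hn0 hn1 hmv hw0 i (pX_le_lev g i hb1) hw)),
      b1 * u', mul_mem (pX_le_pU g i hb1) hu', ?_⟩
    calc s * (a * c * h * (y * w) * u') = (s * a) * c * (s * a)⁻¹ * (s * a * h * y) * w * u' := by
          group
      _ = _ := by rw [e]; group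
  have hx' := hgen hx
  rw [Subgroup.iSup_eq_closure] at hx'
  induction hx' using Subgroup.closure_induction_left with
  | one => exact ⟨1, one_mem _, 1, one_mem _, 1, one_mem _, 1, one_mem _, by group⟩
  | mul_left a ha y hy ih =>
    obtain ⟨i, hi⟩ := Set.mem_iUnion.1 ha
    refine step i a hi y (ih ?_)
    simpa using mul_mem (inv_mem (lev_le g i hi)) hx
  | inv_mul_cancel a ha y hy ih =>
    obtain ⟨i, hi⟩ := Set.mem_iUnion.1 ha
    refine step i _ (inv_mem hi) y (ih ?_)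
    simpa using mul_mem (lev_le g i hi) hx

/-- Some conjugate of `x` has diagonal part `h`. -/
def HasGauss (_g : Gens φ O G1 d) (x h : GL D.Idx F) : Prop :=
  ∃ a ∈ G1, ∃ v ∈ nU G1, ∃ u ∈ pU G1, a * x * a⁻¹ = v * h * u

theorem exists_gauss (hgen : G1 ≤ ⨆ i, lev g i) {x : GL D.Idx F} (hx : x ∈ G1) :
    ∃ h ∈ tor G1, HasGauss g x h := by
  obtain ⟨u, hu, h, hh, v, hv, u', hu', e⟩ := exists_UHVU g hn0 hn1 hmv hw0 hgen hx
  exact ⟨h, hh, u⁻¹, inv_mem hu.2, h * v * h⁻¹, tor_nU g hn0 hn1 hmv hw0 hh hv, u' * u,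
    mul_mem hu' hu, by rw [e]; group⟩

/-- The diagonal part moves by the elements centralising `z` when it does not centralise the orbit
group. -/
theorem gauss_move (i : I) {z N : GL D.Idx F} (hN : N ∈ lev g i) (hNm : N ∈ D.monomialSubgroup F)
    (hNmv : C.Moves N (g.wJ i)) (hNz : Commute N z) (hXz : ∀ a ∈ pX g i, Commute a z)
    (hYz : ∀ a ∈ nX g i, Commute a z)
    (hsurj : ∀ r ∈ tor G1, Commute r z → ∃ x ∈ pX g i, ∃ y ∈ nX g i, ∃ b ∈ pX g i,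
      x * N = y * r * b)
    {x h : GL D.Idx F} (hh : h ∈ tor G1) (hx : HasGauss g x h) {x0 : GL D.Idx F}
    (hx0 : x0 ∈ pX g i) (hne : h * x0 ≠ x0 * h) {r : GL D.Idx F} (hr : r ∈ tor G1)
    (hrz : Commute r z) : HasGauss g x (r * h) := by
  have hNG : N ∈ G1 := lev_le g i hN
  have hcell := lev_cell g i hN hNm hNmv hNz hXz hYz
  -- the goal for elements in the cell
  let Good : GL D.Idx F → Prop := fun l => ∃ k ∈ lev g i, ∃ y ∈ nX g i, ∃ b ∈ pX g i,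
    k * l * k⁻¹ = y * (r * h) * b
  have hcellGood : ∀ a ∈ pX g i, ∀ t ∈ tor G1, Commute t z → ∀ b ∈ pX g i,
      Good (a * (N * (t * h)) * b) := by
    intro a ha t ht htz b hb
    obtain ⟨c, hc, y, hy, b', hb', e⟩ := hsurj (r * t⁻¹) (mul_mem hr (inv_mem ht))
      (hrz.mul_left htz.inv_left)
    have hth : t * h ∈ tor G1 := mul_mem ht hh
    refine ⟨c * a⁻¹, mul_mem (pX_le_lev g i hc) (inv_mem (pX_le_lev g i ha)), y, hy,
      (t * h)⁻¹ * b' * (t * h) * (b * a * c⁻¹), mul_mem (by simpa using tor_pX g i (inv_mem hth) hb')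
        (mul_mem (mul_mem hb ha) (inv_mem hc)), ?_⟩
    calc c * a⁻¹ * (a * (N * (t * h)) * b) * (c * a⁻¹)⁻¹ = (c * N) * (t * h) * (b * a * c⁻¹) := by
          group
      _ = _ := by rw [e]; group
  have hyGood : ∀ y ∈ nX g i, y ≠ 1 → ∀ b ∈ pX g i, Good (y * h * b) := by
    intro y hy hy1 b hb
    obtain ⟨a, ha, t, ht, htz, b1, hb1, rfl⟩ := hcell y hy hy1
    have := hcellGood a ha t ht htz (h⁻¹ * b1 * h * b)
      (mul_mem (by simpa using tor_pX g i (inv_mem hh) hb1) hb)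
    simpa [mul_assoc] using this
  have hconj : ∀ k ∈ lev g i, ∀ l, Good (k * l * k⁻¹) → Good l := by
    rintro k hk l ⟨k', hk', y, hy, b, hb, e⟩
    exact ⟨k' * k, mul_mem hk' hk, y, hy, b, hb, by rw [← e]; group⟩
  have hbGood : ∀ b ∈ pX g i, b ≠ 1 → Good (h * b) := by
    intro b hb hb1
    refine hconj N hN _ ?_
    have hNh : N * h * N⁻¹ ∈ tor G1 :=
      ⟨C.conj_diagonal_mem hNm hh.1, mul_mem (mul_mem hNG hh.2) (G1.inv_mem hNG)⟩
    have hy : N * b * N⁻¹ ∈ nX g i := Subgroup.mem_inf.2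
      ⟨conj_in hNmv (g.wJ_mem i) (g.wJ_neg i) b (Subgroup.mem_inf.1 hb).1,
        mul_mem (mul_mem (g.le_fixed hNG) (Subgroup.mem_inf.1 hb).2) (inv_mem (g.le_fixed hNG))⟩
    obtain ⟨a, ha, t, ht, htz, b1, hb1', e⟩ := hcell _ hy fun e => hb1 (conj_eq_one_iff.1 e)
    have := hcellGood _ (tor_pX g i hNh ha) t ht htz b1 hb1'
    rw [← (tor_comm g hh ht).eq] at this
    have e2 : N * (h * b) * N⁻¹ = N * h * N⁻¹ * a * (N * h * N⁻¹)⁻¹ * (N * (h * t)) * b1 := by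
      calc N * (h * b) * N⁻¹ = N * h * N⁻¹ * (N * b * N⁻¹) := by group
        _ = _ := by rw [e]; group
    rwa [e2]
  have all : ∀ y ∈ nX g i, ∀ b ∈ pX g i, Good (y * h * b) := by
    intro y hy b hb
    by_cases hy1 : y = 1
    · subst hy1
      rw [one_mul]
      by_cases hb1 : b = 1
      · subst hb1
        refine hconj x0 (pX_le_lev g i hx0) _ ?_
        have := hbGood (h⁻¹ * x0 * h * x0⁻¹)
          (mul_mem (by simpa using tor_pX g i (inv_mem hh) hx0) (inv_mem hx0))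
          fun e => hne (by
            have := mul_inv_eq_one.1 e
            calc h * x0 = h * (h⁻¹ * x0 * h) := by rw [this]
              _ = _ := by group)
        simpa [mul_assoc] using this
      · exact hbGood b hb hb1
    · exact hyGood y hy hy1 b hb
  obtain ⟨a, ha, v, hv, u, hu, e⟩ := hx
  obtain ⟨y, hy, w, hw, rfl⟩ := low_split g hn0 hn1 hmv hw0 i hv
  obtain ⟨b, hb, c, hc, rfl⟩ := upper_split g i hu
  obtain ⟨k, hk, y', hy', b', hb', ek⟩ := all y hy b hb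
  refine ⟨k * a, mul_mem (lev_le g i hk) ha, (k * y) * w * (k * y)⁻¹ * y',
    mul_mem (outV_le g hn0 hn1 hmv hw0 i
      (lev_outV g hn0 hn1 hmv hw0 i (mul_mem hk (nX_le_lev g i hy)) hw))
      (nX_le_nU g hn0 hn1 hmv hw0 i hy'),
    b' * (k * c * k⁻¹), mul_mem (pX_le_pU g i hb') (outU_le g i (lev_outU g i hk hc)), ?_⟩
  calc k * a * x * (k * a)⁻¹ = k * (a * x * a⁻¹) * k⁻¹ := by group
    _ = (k * y) * w * (k * y)⁻¹ * (k * (y * h * b) * k⁻¹) * (k * c * k⁻¹) := by rw [e]; group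
    _ = _ := by rw [ek]; group

end opposite

end CfsgLib.LargeReeSquare
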