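import Cfsg.Agent.Lib.LargeReeSquare.Gauss
import Cfsg.Agent.Lib.LargeReeMult.Exponents
import Cfsg.Agent.Lib.LargeReeMult.Rho
import Cfsg.Agent.Lib.TwistSquare.D4Regular

/-!
# The two Levi groups of `²F₄(q)` in the Gauss moves

Every element has a conjugate `v * h * u` with `h` in the torus of the second Levi group.
-/

set_option autoImplicit false
set_option linter.unusedSectionVars false

namespace CfsgLib.LargeReeSquare

open Cfsg.Lie CfsgLib.ChevStr CfsgLib.ChevStr.ChevCore CfsgLib.Twisted CfsgLib.TwistAut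
  CfsgLib.LargeReeAut CfsgLib.LargeReeMult
open scoped MatrixGroups

/-- The roots centralised by the two Levi groups. -/
def gamF4 : Fin 2 → ℕ := ![45, 47]

theorem gamF4_comm : ∀ i, ∀ r : Fin chevF4.nroots, SuppIn rootDataF4 (nodesF4 i) r →
    CommPair chevF4 (gamF4 i) r := by
  unfold CommPair
  decide +kernel

theorem gamF4_cartan : ∀ j : Fin chevF4.rank,
    chevF4.cartan j.val 45 = [0, 2, -1, 0].getD j.val 0 ∧
    chevF4.cartan j.val 47 = [0, 0, 0, 1].getD j.val 0 := by decide +kernel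

theorem turn_vals : (reflDataF4.wordPerm (f4TwistWord 0) ⟨f4p4, by decide⟩ : ℕ) = f4m4 ∧
    (reflDataF4.wordPerm (f4TwistWord 1) ⟨f4b, by decide⟩ : ℕ) = f4mb ∧
    chevF4.neg f4p4 = f4m4 ∧ chevF4.neg f4b = f4mb := by decide +kernel

/-- A word for the longest element. -/
def longWord : List (Fin chevF4.rank) :=
  (List.replicate 6 [nodeF4 0, nodeF4 1, nodeF4 2, nodeF4 3]).flatten

theorem longWord_facts : (∀ r : Fin chevF4.nroots, (reflDataF4.wordPerm longWord r : ℕ) = chevF4.neg r) ∧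
    ∀ r : Fin chevF4.nroots,
      rhoF4 (reflDataF4.wordPerm longWord r) = reflDataF4.wordPerm longWord (rhoF4 r) := by
  decide +kernel

universe u

variable {K : Type u} [Field K] [Fintype K] [CharP K 2] {m : ℕ}
  (hn : Fintype.card K = 2 * (2 ^ m * 2 ^ m))

include hn

theorem exists_n0 : ∃ n, n ∈ chevF4.monomialSubgroup K ∧ n ∈ twistedF4 K (2 ^ m) ∧
    ∃ w, (coreF4 K).Moves n w ∧ ∀ r : Fin chevF4.nroots, (w r : ℕ) = chevF4.neg r := by
  obtain ⟨n, h1, h2, h3⟩ := (gensF4 K hn).exists_rep_twist (w := reflDataF4.wordPerm longWord)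
    (reflDataF4.wordPerm_mem _) (Equiv.ext longWord_facts.2)
  exact ⟨n, h1, h2, _, h3, longWord_facts.1⟩

theorem gens_le : twistedF4 K (2 ^ m) ≤ ⨆ i, lev (gensF4 K hn) i := by
  refine (Subgroup.closure_le _).2 ?_
  rintro g ⟨w, hw, hg⟩
  rw [show g = (coreF4 K).wordGL w from Units.ext (hg.trans ((coreF4 K).coe_wordGL w).symm)]
  rcases hw with ⟨t, rfl | rfl⟩ | ⟨t, u, rfl | rfl⟩
  · exact Subgroup.mem_iSup_of_mem 0 (pX_le_lev _ 0 (Pt_fix hn t))
  · refine Subgroup.mem_iSup_of_mem 0 (nX_le_lev _ 0 (Subgroup.mem_inf.2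
      ⟨(coreF4 K).wordGL_mem_Ucl fun p hp => ?_,
        le_fixedF4 K hn ((coreF4 K).wordGL_mem_gen (W := f4Words K (2 ^ m)) (Or.inl ⟨t, Or.inr rfl⟩))⟩))
    refine levi_neg_roots.1 p.1 ?_
    simp only [f4PairWord, List.mem_cons, List.not_mem_nil, or_false] at hp
    rcases hp with rfl | rfl <;> simp
  · exact Subgroup.mem_iSup_of_mem 1 (pX_le_lev _ 1 (Bt_fix hn t u))
  · refine Subgroup.mem_iSup_of_mem 1 (nX_le_lev _ 1 (Subgroup.mem_inf.2
      ⟨(coreF4 K).wordGL_mem_Ucl fun p hp => ?_,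
        le_fixedF4 K hn ((coreF4 K).wordGL_mem_gen (W := f4Words K (2 ^ m)) (Or.inr ⟨t, u, Or.inr rfl⟩))⟩))
    refine levi_neg_roots.2 p.1 ?_
    simp only [b2ClassWord, List.mem_cons, List.not_mem_nil, or_false] at hp
    rcases hp with rfl | rfl | rfl | rfl <;> simp

omit hn in
theorem supp_lt {i : Fin 2} {r : ℕ} (hr : chevF4.IsPosRoot r ∨ chevF4.IsNegRoot r)
    (hs : SuppIn rootDataF4 (nodesF4 i) r) (x y : K) :
    Commute ((coreF4 K).xGL r x) ((coreF4 K).xGL (gamF4 i) y) := by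
  have h : r < chevF4.nroots := by rcases hr with h | h <;> exact h.1
  exact (gamF4_comm i ⟨r, h⟩ hs).commute (coreF4 K) (gamF4 i) (by simp) r (by simp) y x

theorem levi_commute (i : Fin 2) {a : GL chevF4.Idx K} (ha : a ∈ leviGrp K m i) (y : K) :
    Commute a ((coreF4 K).xGL (gamF4 i) y) := by
  have h : leviGrp K m i ≤ Subgroup.centralizer {(coreF4 K).xGL (gamF4 i) y} := by
    refine sup_le (inf_le_left.trans ((coreF4 K).Ucl_le fun r hr x => ?_))
      (inf_le_left.trans ((coreF4 K).Ucl_le fun r hr x => ?_))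
    · exact Subgroup.mem_centralizer_iff.2 fun z hz => by
        rw [Set.mem_singleton_iff.1 hz]; exact (supp_lt (Or.inl hr.1) hr.2 x y).eq.symm
    · exact Subgroup.mem_centralizer_iff.2 fun z hz => by
        rw [Set.mem_singleton_iff.1 hz]; exact (supp_lt (Or.inr hr.1) hr.2 x y).eq.symm
  exact (Subgroup.mem_centralizer_iff.1 (h ha) _ rfl).symm

theorem char_gam (c v : Kˣ) :
    (coreF4 K).R.torusChar (tauVec K m c v) ((coreF4 K).R.α 45) = (v ^ 2 ^ m) ^ (2 : ℤ) * v ^ (-1 : ℤ) ∧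
    (coreF4 K).R.torusChar (tauVec K m c v) ((coreF4 K).R.α 47) = c := by
  have h45 : 45 < chevF4.nroots := by decide
  have h47 : 47 < chevF4.nroots := by decide
  refine ⟨?_, ?_⟩ <;>
    simp only [tauVec, RootData.torusChar_mul, RootData.torusChar_single _ _ _ h45,
      RootData.torusChar_single _ _ _ h47, (gamF4_cartan _).1, (gamF4_cartan _).2] <;>
    simp [nodeF4]

omit hn in
theorem tauVec_mul (c v c' v' : Kˣ) :
    tauVec K m (c * c') (v * v') = tauVec K m c v * tauVec K m c' v' := by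
  simp only [tauVec, mul_pow, Pi.mulSingle_mul]
  ac_rfl

theorem tau_tor (c v : Kˣ) : (coreF4 K).R.torus (tauVec K m c v) ∈ TwistAut.tor (twistedF4 K (2 ^ m)) :=
  ⟨(coreF4 K).diagonalSubgroup_eq ▸ ⟨_, rfl⟩, tau_mem hn c v⟩

omit hn in
theorem commute_xGL_iff {c : Fin chevF4.rank → Kˣ} {r : ℕ} (hr : r < chevF4.nroots) :
    Commute ((coreF4 K).R.torus c) ((coreF4 K).xGL r 1) ↔
      (coreF4 K).R.torusChar c ((coreF4 K).R.α r) = 1 := by
  have h := (coreF4 K).acts_torus c ⟨r, hr⟩ (1 : K)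
  rw [mul_one] at h
  constructor
  · intro hc
    rw [hc.eq, mul_inv_cancel_right] at h
    exact Units.ext ((coreF4 K).xGL_injective hr h).symm
  · intro hc
    rw [show (((coreF4 K).R.torusChar c ((coreF4 K).R.α (⟨r, hr⟩ : Fin chevF4.nroots).val) : Kˣ) : K) = 1 by
      exact congrArg Units.val hc] at h
    exact mul_inv_eq_iff_eq_mul.1 h

omit hn in
theorem unit_sq_one {u : Kˣ} (h : u * u = 1) : u = 1 := by
  refine Units.ext ?_
  have h1 : (u : K) * u = 1 := by rw [← Units.val_mul, h, Units.val_one]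
  have h2 : ((u : K) - 1) * ((u : K) - 1) = 0 := by
    have h3 : (2 : K) = 0 := CharTwo.two_eq_zero
    linear_combination h1 + (1 - (u : K)) * h3
  exact sub_eq_zero.1 (mul_self_eq_zero.1 h2)

theorem eq_one_of_pow {v : Kˣ} (h : v ^ (2 * 2 ^ m) = v) : v = 1 := by
  have h1 := unit_powF4 K hn v
  have h2 : v ^ 2 ^ m = v := by
    calc v ^ 2 ^ m = (v ^ (2 * 2 ^ m)) ^ 2 ^ m := by rw [h]
      _ = v := by rw [← pow_mul, mul_assoc, h1]
  rw [mul_comm, pow_mul, h2, sq, mul_eq_left] at h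
  exact h

theorem eq_one_of_pow' {v : Kˣ} (h : v ^ 2 ^ m = v) : v = 1 := by
  have h1 := unit_powF4 K hn v
  refine mul_eq_left.1 (show v * v = v from ?_)
  calc v * v = ((v ^ 2 ^ m) ^ 2 ^ m) ^ 2 := by rw [h, h, sq]
    _ = v := by rw [← pow_mul, ← pow_mul, show 2 ^ m * (2 ^ m * 2) = 2 * (2 ^ m * 2 ^ m) by ring, h1]

theorem wJ_twist (i : Fin 2) : (gensF4 K hn).wJ i = reflDataF4.wordPerm (f4TwistWord i) :=
  (gensF4 K hn).wJ_eq i ((reflDataF4.weylSub _).list_prod_mem fun y hy => by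
    obtain ⟨j, hj, rfl⟩ := List.mem_map.1 hy
    exact reflDataF4.sPerm_mem_sub (f4_word_mem i j hj)) (f4_word_neg i)

/-- A representative of the reflection inside the Levi group. -/
theorem exists_N (i : Fin 2) : ∃ N ∈ leviGrp K m i, N ∈ lev (gensF4 K hn) i ∧
    N ∈ chevF4.monomialSubgroup K ∧ (coreF4 K).Moves N ((gensF4 K hn).wJ i) := by
  set g := gensF4 K hn
  obtain ⟨a, ha, hne⟩ := exists_in_ne_one g i
  obtain ⟨y, hy, t, ht, h, hh, e⟩ := exists_rep_levi hn i (v := g.s i * a * (g.s i)⁻¹)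
    (conj_in_mem g i ha) fun e => hne (conj_eq_one_iff.1 e)
  have hL : leviGrp K m i ≤ lev g i := sup_le (pX_le_lev g i) (nX_le_lev g i)
  have hN : h * g.s i ∈ leviGrp K m i := by
    rw [e]
    exact mul_mem (mul_mem (inv_mem (Subgroup.mem_sup_left hy))
      (Subgroup.mem_sup_right (conj_in_mem g i ha))) (inv_mem (Subgroup.mem_sup_left ht))
  refine ⟨_, hN, hL hN, mul_mem (diag_le_monomial' hh.1) (g.s_mem_N i), ?_⟩
  have h1 : (coreF4 K).Moves h 1 := TwistMult.moves_one_of_diag hh.1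
  simpa using ChevCore.Moves.mul (coreF4 K) h1 (g.s_moves i)
where
  diag_le_monomial' {x : GL chevF4.Idx K} (hx : x ∈ chevF4.diagonalSubgroup K) :
      x ∈ chevF4.monomialSubgroup K := Subgroup.mem_sup_left hx

theorem free_tor (i : Fin 2) {N : GL chevF4.Idx K} (hNm : N ∈ chevF4.monomialSubgroup K)
    (hNmv : (coreF4 K).Moves N ((gensF4 K hn).wJ i)) :
    ∀ t ∈ TwistAut.tor (twistedF4 K (2 ^ m)), Commute t ((coreF4 K).xGL (gamF4 i) 1) →
      Commute t N → t = 1 := by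
  intro t ht htz htN
  obtain ⟨c, v, rfl⟩ := exists_tau hn ht
  obtain ⟨d, hd, hdc⟩ := TwistSquare.conj_torus_char (coreF4 K) hNm hNmv (tauVec K m c v)
  rw [← htN.eq, mul_inv_cancel_right] at hd
  have hsame : ∀ r, r < chevF4.nroots → (coreF4 K).R.torusChar d ((coreF4 K).R.α r) =
      (coreF4 K).R.torusChar (tauVec K m c v) ((coreF4 K).R.α r) := fun r hr => by
    have h1 := (coreF4 K).acts_torus d ⟨r, hr⟩ (1 : K)
    rw [← hd, (coreF4 K).acts_torus (tauVec K m c v) ⟨r, hr⟩, mul_one, mul_one] at h1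
    exact (Units.ext ((coreF4 K).xGL_injective hr h1)).symm
  obtain ⟨t0, t1, n0, n1⟩ := turn_vals
  obtain ⟨g45, g47⟩ := char_gam hn c v
  obtain ⟨cp, cb⟩ := char_tau (K := K) (m := m) c v
  have hsq : ∀ r : Fin chevF4.nroots, (reflDataF4.wordPerm (f4TwistWord i) r : ℕ) = chevF4.neg r →
      (coreF4 K).R.torusChar (tauVec K m c v) ((coreF4 K).R.α r) = 1 := fun r hr => by
    have h := hdc r
    rw [wJ_twist hn, hr, hsame _ ((coreF4 K).R.neg_lt r r.isLt), TwistSquare.char_neg] at h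
    exact unit_sq_one (mul_eq_one_iff_eq_inv.2 h.symm)
  fin_cases i
  · have h45 := (commute_xGL_iff (c := tauVec K m c v) (r := 45) (by decide)).1 htz
    rw [g45, zpow_two, ← pow_add, ← two_mul, _root_.zpow_neg_one, mul_inv_eq_one] at h45
    obtain rfl := eq_one_of_pow hn h45
    have h := hsq ⟨f4p4, by decide⟩ (by rw [n0]; exact t0)
    rw [cp, one_zpow, mul_one, zpow_two] at h
    obtain rfl := unit_sq_one h
    rw [show tauVec K m (1 : Kˣ) 1 = 1 by simp [tauVec], map_one]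
  · have h47 := (commute_xGL_iff (c := tauVec K m c v) (r := 47) (by decide)).1 htz
    rw [g47] at h47
    subst h47
    have h := hsq ⟨f4b, by decide⟩ (by rw [n1]; exact t1)
    rw [cb, one_zpow, one_mul, zpow_two, zpow_neg, zpow_two, inv_mul_eq_one] at h
    have h2 : v ^ 2 ^ m = v := mul_inv_eq_one.1 (unit_sq_one (by
      rw [mul_mul_mul_comm, h, ← mul_inv, mul_inv_cancel]))
    obtain rfl := eq_one_of_pow' hn h2
    rw [show tauVec K m (1 : Kˣ) 1 = 1 by simp [tauVec], map_one]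

theorem levi_le_lev (i : Fin 2) : leviGrp K m i ≤ lev (gensF4 K hn) i :=
  sup_le (pX_le_lev _ i) (nX_le_lev _ i)

/-- The part of the torus centralising the chosen root element is in the Levi group. -/
theorem tor_mem_levi (i : Fin 2) {r : GL chevF4.Idx K} (hr : r ∈ TwistAut.tor (twistedF4 K (2 ^ m)))
    (hrz : Commute r ((coreF4 K).xGL (gamF4 i) 1)) : r ∈ leviGrp K m i := by
  obtain ⟨N, hNL, hN, hNm, hNmv⟩ := exists_N hn i
  obtain ⟨x, hx, y, hy, b, hb, e⟩ := lev_surj (gensF4 K hn) i hN hNm hNmv (levi_commute hn i hNL 1)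
    (fun a ha => levi_commute hn i (Subgroup.mem_sup_left ha) 1)
    (fun a ha => levi_commute hn i (Subgroup.mem_sup_right ha) 1) (free_tor hn i hNm hNmv) r hr hrz
  have e' : r = y⁻¹ * (x * N) * b⁻¹ := by rw [e]; group
  rw [e']
  exact mul_mem (mul_mem (inv_mem (Subgroup.mem_sup_right hy)) (mul_mem (Subgroup.mem_sup_left hx) hNL))
    (inv_mem (Subgroup.mem_sup_left hb))

theorem move (i : Fin 2) {x h : GL chevF4.Idx K} (hh : h ∈ TwistAut.tor (twistedF4 K (2 ^ m)))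
    (hx : HasGauss (gensF4 K hn) x h) {x0 : GL chevF4.Idx K} (hx0 : x0 ∈ pX (gensF4 K hn) i)
    (hne : h * x0 ≠ x0 * h) {r : GL chevF4.Idx K} (hr : r ∈ TwistAut.tor (twistedF4 K (2 ^ m)))
    (hrz : Commute r ((coreF4 K).xGL (gamF4 i) 1)) : HasGauss (gensF4 K hn) x (r * h) := by
  obtain ⟨n0, hm0, hG0, w0, hmv0, hw0⟩ := exists_n0 hn
  obtain ⟨N, hNL, hN, hNm, hNmv⟩ := exists_N hn i
  exact gauss_move (gensF4 K hn) hm0 hG0 hmv0 hw0 i hN hNm hNmv (levi_commute hn i hNL 1)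
    (fun a ha => levi_commute hn i (Subgroup.mem_sup_left ha) 1)
    (fun a ha => levi_commute hn i (Subgroup.mem_sup_right ha) 1)
    (lev_surj (gensF4 K hn) i hN hNm hNmv (levi_commute hn i hNL 1)
      (fun a ha => levi_commute hn i (Subgroup.mem_sup_left ha) 1)
      (fun a ha => levi_commute hn i (Subgroup.mem_sup_right ha) 1) (free_tor hn i hNm hNmv))
    hh hx hx0 hne hr hrz

theorem not_commute_Pt {c v : Kˣ} (h : v ≠ c * c) :
    (coreF4 K).R.torus (tauVec K m c v) * Pt K m 1 ≠ Pt K m 1 * (coreF4 K).R.torus (tauVec K m c v) := by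
  intro e
  have h1 := torus_conj_Pt hn (tau_mem hn c v) (1 : K)
  rw [e, mul_inv_cancel_right] at h1
  have h2 : (((coreF4 K).R.torusChar (tauVec K m c v) ((coreF4 K).R.α f4p4) : Kˣ) : K) * 1 = 1 :=
    (Pt_inj hn h1).symm
  rw [mul_one, Units.val_eq_one, (char_tau (K := K) (m := m) c v).1, zpow_two, _root_.zpow_neg_one,
    mul_inv_eq_one] at h2
  exact h h2.symm

theorem not_commute_Bt {c v : Kˣ}
    (h : (coreF4 K).R.torusChar (tauVec K m c v) ((coreF4 K).R.α f4b) ≠ 1) :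
    (coreF4 K).R.torus (tauVec K m c v) * Bt K m 1 0 ≠ Bt K m 1 0 * (coreF4 K).R.torus (tauVec K m c v) := by
  intro e
  have h1 := torus_conj_Bt hn (tau_mem hn c v) (1 : K) 0
  rw [e, mul_inv_cancel_right] at h1
  have h2 := (Bt_inj hn h1).1.symm
  rw [mul_one, Units.val_eq_one] at h2
  exact h h2

/-- Every element has a conjugate with diagonal part in the second Levi group. -/
theorem exists_gauss_one {x : GL chevF4.Idx K} (hx : x ∈ twistedF4 K (2 ^ m)) :
    ∃ h ∈ TwistAut.tor (twistedF4 K (2 ^ m)), h ∈ leviGrp K m 1 ∧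
      HasGauss (gensF4 K hn) x h := by
  obtain ⟨n0, hm0, hG0, w0, hmv0, hw0⟩ := exists_n0 hn
  obtain ⟨h, hh, hg⟩ := exists_gauss (gensF4 K hn) hm0 hG0 hmv0 hw0 (gens_le hn) hx
  obtain ⟨c, v, rfl⟩ := exists_tau hn hh
  have fin : ∀ v : Kˣ, HasGauss (gensF4 K hn) x ((coreF4 K).R.torus (tauVec K m 1 v)) →
      ∃ h ∈ TwistAut.tor (twistedF4 K (2 ^ m)), h ∈ leviGrp K m 1 ∧ HasGauss (gensF4 K hn) x h :=
    fun v hv => ⟨_, tau_tor hn 1 v, tor_mem_levi hn 1 (tau_tor hn 1 v)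
      ((commute_xGL_iff (r := 47) (by decide)).2 (char_gam hn 1 v).2), hv⟩
  have move0 : ∀ {c v : Kˣ}, v ≠ c * c →
      HasGauss (gensF4 K hn) x ((coreF4 K).R.torus (tauVec K m c v)) →
      HasGauss (gensF4 K hn) x ((coreF4 K).R.torus (tauVec K m 1 v)) := fun {c v} h hg => by
    have := move hn 0 (tau_tor hn c v) hg (Pt_fix hn 1) (not_commute_Pt hn h) (tau_tor hn c⁻¹ 1)
      ((commute_xGL_iff (r := 45) (by decide)).2 (by rw [(char_gam hn c⁻¹ 1).1]; simp))
    rwa [← map_mul, ← tauVec_mul, inv_mul_cancel, one_mul] at this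
  by_cases h0 : v = c * c
  swap
  · exact fin v (move0 h0 hg)
  by_cases hc : c = 1
  · subst hc; exact fin v hg
  have hb : (coreF4 K).R.torusChar (tauVec K m c v) ((coreF4 K).R.α f4b) ≠ 1 := fun hb => by
    have hp : (coreF4 K).R.torusChar (tauVec K m c v) ((coreF4 K).R.α f4p4) = 1 := by
      rw [(char_tau (K := K) (m := m) c v).1, h0, zpow_two, _root_.zpow_neg_one, mul_inv_cancel]
    have h1 := (chars_bijective (K := K) hn).1 (a₁ := (c, v)) (a₂ := (1, 1)) (by
      simp only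
      rw [hp, hb, (char_tau (K := K) (m := m) 1 1).1, (char_tau (K := K) (m := m) 1 1).2]
      simp)
    exact hc (congrArg Prod.fst h1)
  have h2 := move hn 1 (tau_tor hn c v) hg (Bt_fix hn 1 0) (not_commute_Bt hn hb)
    (tau_tor hn 1 (c * v⁻¹)) ((commute_xGL_iff (r := 47) (by decide)).2 (char_gam hn 1 _).2)
  rw [← map_mul, ← tauVec_mul, one_mul, inv_mul_cancel_right] at h2
  exact fin c (move0 (fun e => hc (mul_eq_left.1 e.symm)) h2)

end CfsgLib.LargeReeSquare
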