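import Cfsg.Agent.Lib.LargeReeMult.Rho
import Cfsg.Agent.Lib.SuzukiGroup.TraceOrder
import Cfsg.Agent.Lib.SuzukiChars.Squares

/-!
# The second Levi group of `²F₄(q)` as a Suzuki group

Every element is a product of two conjugates of an element of order five.
-/

set_option autoImplicit false
set_option linter.unusedSectionVars false

namespace CfsgLib.LargeReeSquare

open Cfsg.Lie CfsgLib.ChevStr CfsgLib.Twisted CfsgLib.TwistAut CfsgLib.LargeReeMult
  CfsgLib.SuzukiGroup CfsgLib.LargeReeAut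
open scoped MatrixGroups Matrix

universe u

variable {K : Type u} [Field K] [Fintype K] [CharP K 2] {m : ℕ}

section sz

variable (P : Params K (2 ^ (m + 1)))

/-- The element of order five over the prime field. -/
noncomputable def k0 : ↥(Sz K (2 ^ (m + 1))) := jEl P * uEl P 0 1

theorem k0_conj : uEl P 1 1 * k0 P * (uEl P 1 1)⁻¹ = k0 P * k0 P := by
  rw [mul_inv_eq_iff_eq_mul]
  refine mat_ext ?_
  ext i j
  fin_cases i <;> fin_cases j <;>
    simp [k0, jMat, uMat, Matrix.mul_apply, Fin.sum_univ_four, CharTwo.add_self_eq_zero]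

theorem k0_five : k0 P * k0 P * (k0 P * k0 P) * k0 P = 1 := by
  refine mat_ext ?_
  ext i j
  fin_cases i <;> fin_cases j <;>
    simp [k0, jMat, uMat, Matrix.mul_apply, Fin.sum_univ_four, CharTwo.add_self_eq_zero]

theorem k0_ne : k0 P ≠ 1 := fun h => by
  have := congrFun (congrFun (congrArg mat h) 0) 0
  simp [k0, jMat, uMat, Matrix.mul_apply, Fin.sum_univ_four] at this

theorem orderOf_k0 : orderOf (k0 P) = 5 := by
  have : Fact (Nat.Prime 5) := ⟨by norm_num⟩
  refine orderOf_eq_prime ?_ (k0_ne P)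
  rw [← k0_five P]
  simp only [pow_succ, pow_zero, one_mul, mul_assoc]

theorem k0_class (i : ℤ) (hi : (k0 P) ^ i ≠ 1) : IsConj (k0 P) ((k0 P) ^ i) := by
  have h2 : IsConj (k0 P) (k0 P ^ 2) := isConj_iff.2 ⟨_, (k0_conj P).trans (sq _).symm⟩
  have h4 : IsConj (k0 P) (k0 P ^ 4) := h2.trans (by simpa [← pow_mul] using h2.pow 2)
  have h8 : IsConj (k0 P) (k0 P ^ 8) := h2.trans (by simpa [← pow_mul] using h4.pow 2)
  have e : k0 P ^ i = k0 P ^ (i % 5).toNat := by
    conv_lhs => rw [← zpow_mod_orderOf (k0 P) i, orderOf_k0 P]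
    push_cast
    rw [← zpow_natCast, Int.toNat_of_nonneg (Int.emod_nonneg _ (by norm_num))]
  rw [e] at hi ⊢
  have hlt : (i % 5).toNat < 5 := by have := Int.emod_lt_of_pos i (show (0 : ℤ) < 5 by norm_num); omega
  rcases (show (i % 5).toNat = 0 ∨ (i % 5).toNat = 1 ∨ (i % 5).toNat = 2 ∨ (i % 5).toNat = 3 ∨
      (i % 5).toNat = 4 by omega) with h | h | h | h | h <;> rw [h] at hi ⊢
  · simp at hi
  · rw [pow_one]
  · exact h2
  · rwa [show k0 P ^ 3 = k0 P ^ 8 by rw [← pow_mod_orderOf (k0 P) 8, orderOf_k0 P]]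
  · exact h4

theorem isConj_k0 (hF : Fintype.card K = 2 ^ (2 * m + 1)) (hm : 1 ≤ m)
    {y : ↥(Sz K (2 ^ (m + 1)))} (hy : orderOf y = 5) : IsConj (k0 P) y := by
  obtain ⟨c, hc⟩ := exists_conj_zpowers P hF hm (x := k0 P) (y := y)
    (by rw [orderOf_k0 P]; norm_num) (by rw [hy]; norm_num) (by rw [hy, orderOf_k0 P])
  obtain ⟨i, hi⟩ := Subgroup.mem_zpowers_iff.1 hc
  have hne : k0 P ^ i ≠ 1 := fun e => by
    rw [e] at hi
    have h1 : y = 1 := conj_eq_one_iff.1 hi.symm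
    rw [h1, orderOf_one] at hy
    norm_num at hy
  refine (k0_class P i hne).trans ?_
  rw [hi]
  exact isConj_iff.2 ⟨c⁻¹, by group⟩

theorem closure_uEl_eq_top (hq : 2 < Fintype.card K) {H : Subgroup ↥(Sz K (2 ^ (m + 1)))}
    (hU : ∀ a b, uEl P a b ∈ H) (hL : ∀ a b, jEl P * uEl P a b * jEl P ∈ H) : H = ⊤ := by
  set S : Set ↥(Sz K (2 ^ (m + 1))) :=
    {g | ∃ a b, g = uEl P a b ∨ g = jEl P * uEl P a b * jEl P} with hS
  set M := Subgroup.closure S with hM
  have hMH : M ≤ H := (Subgroup.closure_le _).2 fun g hg => by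
    obtain ⟨a, b, rfl | rfl⟩ := hg
    exacts [hU a b, hL a b]
  have hj : ∀ g ∈ S, jEl P * g * (jEl P)⁻¹ ∈ M := by
    have e : (jEl P)⁻¹ = jEl P := inv_eq_of_mul_eq_one_right (jEl_mul_self P)
    rintro g ⟨a, b, rfl | rfl⟩
    · rw [e]; exact Subgroup.subset_closure ⟨a, b, Or.inr rfl⟩
    · rw [e, show jEl P * (jEl P * uEl P a b * jEl P) * jEl P =
        (jEl P * jEl P) * uEl P a b * (jEl P * jEl P) by group, jEl_mul_self, one_mul, mul_one]
      exact Subgroup.subset_closure ⟨a, b, Or.inl rfl⟩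
  have hd : ∀ x, ∀ g ∈ S, dEl P x * g * (dEl P x)⁻¹ ∈ M := by
    rintro x g ⟨a, b, rfl | rfl⟩
    · rw [dEl_mul_uEl, mul_inv_cancel_right]; exact Subgroup.subset_closure ⟨_, _, Or.inl rfl⟩
    · have e1 : dEl P x * jEl P = jEl P * dEl P x⁻¹ := by rw [jEl_mul_dEl, inv_inv]
      have e2 : jEl P * (dEl P x)⁻¹ = dEl P x * jEl P := by
        rw [show (dEl P x)⁻¹ = dEl P x⁻¹ from inv_eq_of_mul_eq_one_right (by
          rw [dEl_mul, mul_inv_cancel, dEl_one]), jEl_mul_dEl, inv_inv]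
      rw [show dEl P x * (jEl P * uEl P a b * jEl P) * (dEl P x)⁻¹ =
        (dEl P x * jEl P) * uEl P a b * (jEl P * (dEl P x)⁻¹) by group, e1, e2,
        show jEl P * dEl P x⁻¹ * uEl P a b * (dEl P x * jEl P) =
          jEl P * (dEl P x⁻¹ * uEl P a b * dEl P x) * jEl P by group, dEl_mul_uEl, mul_assoc _ _ (dEl P x),
        dEl_mul, inv_mul_cancel, dEl_one, mul_one]
      exact Subgroup.subset_closure ⟨_, _, Or.inr rfl⟩
  have hu : ∀ a b, uEl P a b ∈ Subgroup.normalizer (M : Set ↥(Sz K (2 ^ (m + 1)))) := fun a b =>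
    Subgroup.le_normalizer (Subgroup.subset_closure ⟨a, b, Or.inl rfl⟩)
  have nrm : ∀ w, (∀ g ∈ S, w * g * w⁻¹ ∈ M) →
      w ∈ Subgroup.normalizer (M : Set ↥(Sz K (2 ^ (m + 1)))) := by
    intro w hw
    have hle : M.map (MulAut.conj w).toMonoidHom ≤ M := by
      rw [hM, MonoidHom.map_closure, Subgroup.closure_le]
      rintro _ ⟨g, hg, rfl⟩
      simpa [MulAut.conj_apply, hM] using hw g hg
    have heq : M.map (MulAut.conj w).toMonoidHom = M := Subgroup.eq_of_le_of_card_ge hle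
      (Nat.card_congr (M.equivMapOfInjective (MulAut.conj w).toMonoidHom (MulAut.conj w).injective).toEquiv).le
    rw [Subgroup.mem_normalizer_iff]
    intro n
    constructor
    · intro hn; rw [← heq]; exact ⟨n, hn, rfl⟩
    · intro hn; rw [← heq] at hn
      obtain ⟨n', hn', e⟩ := hn
      rwa [← (MulAut.conj w).injective (e.trans rfl : (MulAut.conj w) n' = (MulAut.conj w) n)]
  have hnor : M.Normal := Subgroup.normalizer_eq_top_iff.1 (eq_top_iff.2 fun g _ => by
    by_cases hg : g ∈ borel (F := K) (e := 2 ^ (m + 1))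
    · obtain ⟨a, b, x, rfl⟩ := borel_form P hg
      exact mul_mem (hu a b) (nrm _ (hd x))
    · obtain ⟨a, b, h, hh, rfl⟩ := bruhat P hg
      obtain ⟨a', b', x, rfl⟩ := borel_form P hh
      exact mul_mem (mul_mem (hu a b) (nrm _ hj)) (mul_mem (hu a' b') (nrm _ (hd x))))
  have hne : M ≠ ⊥ := fun h => by
    have : uEl P 1 0 ∈ M := Subgroup.subset_closure ⟨1, 0, Or.inl rfl⟩
    rw [h] at this
    exact one_ne_zero (α := K) (uEl_inj P ((Subgroup.mem_bot.1 this).trans (uEl_zero P).symm)).1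
  have := isSimple P hq
  rcases hnor.eq_bot_or_eq_top with h | h
  · exact absurd h hne
  · exact eq_top_iff.2 (h ▸ hMH)

end sz

variable (hn : Fintype.card K = 2 * (2 ^ m * 2 ^ m)) (hm : 1 ≤ m)
include hn hm

/-- The second Levi group is a Suzuki group. -/
theorem exists_levi_equiv (P : Params K (2 ^ (m + 1))) :
    Nonempty (↥(leviGrp K m 1) ≃* ↥(Sz K (2 ^ (m + 1)))) := by
  set ρ := (blockRep (coreF4 K) (orbF4.J 1) blockIdx_facts.2.1 blockIdx_facts.2.2.2).comp
    (Subgroup.inclusion (leviGrp_deg0 (K := K) (m := m) 1))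
  obtain ⟨v, hv, hve⟩ := exists_neg1 hn P
  have hne : v ≠ 1 := by
    rintro rfl
    have h : blk blockIdx1 (1 : GL chevF4.Idx K) = 1 := by
      rw [blk, Units.val_one]; exact Matrix.submatrix_one _ blockIdx_facts.2.1
    rw [h] at hve
    have := congrFun (congrFun hve 3) 2
    simp [Matrix.mul_apply, Fin.sum_univ_four, uMat, jMat] at this
  have hmem : ∀ x, ρ x ∈ Sz K (2 ^ (m + 1)) := by
    set H := ((Sz K (2 ^ (m + 1))).comap ρ).map (leviGrp K m 1).subtype
    have hle : leviGrp K m 1 ≤ H := by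
      refine leviGrp_le_closure hn 1 hv hne (fun y hy => ⟨⟨y, Subgroup.mem_sup_left hy⟩, ?_, rfl⟩)
        ⟨⟨v, Subgroup.mem_sup_right hv⟩, ?_, rfl⟩
      · obtain ⟨t, u, rfl⟩ := exists_Bt hn hy
        refine (mem_iff P _).2 ?_
        show Rel P.θ (blk blockIdx1 (Bt K m t u))
        rw [blk1_Bt hn P]
        exact rel_uMat P.sq _ _
      · refine (mem_iff P _).2 ?_
        show Rel P.θ (blk blockIdx1 v)
        rw [hve]
        exact rel_mat P (jEl P * uEl P 1 0 * jEl P)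
    intro x
    obtain ⟨x', hx', e⟩ := hle x.2
    rwa [← Subtype.ext (a1 := x') (a2 := x) e]
  set f := ρ.codRestrict _ hmem
  refine ⟨MulEquiv.ofBijective f ⟨(injective_iff_map_eq_one _).2 fun x hx => Subtype.ext ?_, ?_⟩⟩
  · exact blk1_faithful hn P x x.2 (congrArg (fun g : ↥(Sz K (2 ^ (m + 1))) =>
      ((g : GL (Fin 4) K) : Matrix (Fin 4) (Fin 4) K)) hx)
  rw [← MonoidHom.range_eq_top]
  have hq : 2 < Fintype.card K := by
    rw [hn]
    have : 2 ≤ 2 ^ m := Nat.le_self_pow (by omega) 2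
    nlinarith
  have hu : ∀ a b, uEl P a b ∈ f.range := fun a b => by
    have hroot : ∃ t : K, t ^ 2 ^ m = a := ⟨a ^ (2 * 2 ^ m), by
      rw [← pow_mul, mul_assoc, ← hn, FiniteField.pow_card]⟩
    obtain ⟨t, rfl⟩ := hroot
    exact ⟨⟨Bt K m t b, Subgroup.mem_sup_left (Bt_fix hn t b)⟩, mat_ext (blk1_Bt hn P t b)⟩
  have hlow : jEl P * uEl P 1 0 * jEl P ∈ f.range :=
    ⟨⟨v, Subgroup.mem_sup_right hv⟩, mat_ext hve⟩
  have hnb : jEl P * uEl P 1 0 * jEl P ∉ borel (F := K) (e := 2 ^ (m + 1)) := fun h => by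
    have h1 := (mem_borel.1 h).1
    simp [Matrix.mul_apply, Fin.sum_univ_four, jMat, uMat] at h1
  obtain ⟨a, b, h, hh, e⟩ := bruhat P hnb
  obtain ⟨a', b', x, rfl⟩ := borel_form P hh
  have hjd : jEl P * uEl P a' b' * dEl P x ∈ f.range := by
    have h1 := mul_mem (inv_mem (hu a b)) hlow
    rw [e] at h1
    simpa [mul_assoc] using h1
  refine closure_uEl_eq_top P hq hu fun c d => ?_
  obtain ⟨c', d', hcd⟩ : ∃ c' d', uEl P c d =
      uEl P a' b' * dEl P x * uEl P c' d' * (uEl P a' b' * dEl P x)⁻¹ := by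
    have hin : (uEl P a' b' * dEl P x)⁻¹ * uEl P c d * (uEl P a' b' * dEl P x) ∈ unip P := by
      have hb : uEl P a' b' * dEl P x ∈ borel (F := K) (e := 2 ^ (m + 1)) :=
        mul_mem (uEl_mem_borel P a' b') (dEl_mem_borel P x)
      have := (Subgroup.mem_normalizer_iff.1 (borel_le_normalizer P (inv_mem hb)) _).1
        (show uEl P c d ∈ unip P from ⟨c, d, rfl⟩)
      simpa [mul_assoc] using this
    obtain ⟨c', d', hc'⟩ := hin
    exact ⟨c', d', by rw [← hc']; group⟩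
  have e2 : jEl P * uEl P c d * jEl P =
      (jEl P * uEl P a' b' * dEl P x) * uEl P c' d' * (jEl P * uEl P a' b' * dEl P x)⁻¹ := by
    have ej : (jEl P)⁻¹ = jEl P := inv_eq_of_mul_eq_one_right (jEl_mul_self P)
    rw [hcd, mul_inv_rev, mul_inv_rev, mul_inv_rev, ej]
    group
  rw [e2]
  exact mul_mem (mul_mem hjd (hu c' d')) (inv_mem hjd)

/-- Every element of the second Levi group is a product of two conjugates of an element of order
five, and the elements of order five are conjugate. -/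
theorem exists_levi_five : ∃ k ∈ leviGrp K m 1, k ^ 5 = 1 ∧ k ≠ 1 ∧
    (∀ k' ∈ leviGrp K m 1, k' ^ 5 = 1 → k' ≠ 1 → ∃ c ∈ leviGrp K m 1, k' = c * k * c⁻¹) ∧
    ∀ l ∈ leviGrp K m 1, ∃ a ∈ leviGrp K m 1, ∃ b ∈ leviGrp K m 1,
      l = (a * k * a⁻¹) * (b * k * b⁻¹) := by
  have hF : Fintype.card K = 2 ^ (2 * m + 1) := LargeReeAut.card_eq hn
  obtain ⟨-, ⟨P⟩⟩ := exists_params hF
  let _ : Fintype ↥(Sz K (2 ^ (m + 1))) := Fintype.ofFinite _
  obtain ⟨φ⟩ := exists_levi_equiv hn hm P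
  have : Fact (Nat.Prime 5) := ⟨by norm_num⟩
  have hk5 : orderOf (φ.symm (k0 P)) = 5 := by rw [MulEquiv.orderOf_eq, orderOf_k0 P]
  have hpow : φ.symm (k0 P) ^ 5 = 1 := by rw [← hk5, pow_orderOf_eq_one]
  refine ⟨φ.symm (k0 P), (φ.symm (k0 P)).2, ?_, fun e => ?_, fun k' hk' h5 hne => ?_, fun l hl => ?_⟩
  · exact congrArg Subtype.val hpow
  · rw [show φ.symm (k0 P) = 1 from Subtype.ext e, orderOf_one] at hk5; norm_num at hk5
  · have ho : orderOf (⟨k', hk'⟩ : ↥(leviGrp K m 1)) = 5 :=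
      orderOf_eq_prime (Subtype.ext h5) fun e => hne (congrArg Subtype.val e)
    obtain ⟨c, hc⟩ := isConj_iff.1 (isConj_k0 P hF hm (y := φ ⟨k', hk'⟩) (by rw [MulEquiv.orderOf_eq, ho]))
    refine ⟨φ.symm c, (φ.symm c).2, ?_⟩
    have := congrArg φ.symm hc
    rw [map_mul, map_mul, map_inv, MulEquiv.symm_apply_apply] at this
    exact (congrArg Subtype.val this).symm
  · by_cases h1 : φ ⟨l, hl⟩ = 1
    · obtain ⟨c, hc⟩ := isConj_iff.1 (isConj_k0 P hF hm (y := (k0 P)⁻¹) (by rw [orderOf_inv, orderOf_k0 P]))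
      refine ⟨1, one_mem _, φ.symm c, (φ.symm c).2, ?_⟩
      have e : l = 1 := by
        have := congrArg φ.symm h1
        rw [MulEquiv.symm_apply_apply, map_one] at this
        exact congrArg Subtype.val this
      have := congrArg φ.symm hc
      rw [map_mul, map_mul, map_inv, map_inv] at this
      rw [e, one_mul, inv_one, mul_one]
      exact (mul_eq_one_iff_inv_eq.2 (congrArg Subtype.val this).symm).symm
    · obtain ⟨u, v, h⟩ := CfsgLib.SuzukiChars.exists_conj_mul_conj P hF hm (k0 P)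
        (by rw [orderOf_k0 P]; norm_num) (φ ⟨l, hl⟩) h1
      refine ⟨φ.symm u, (φ.symm u).2, φ.symm v, (φ.symm v).2, ?_⟩
      have := congrArg φ.symm h
      simp only [map_mul, map_inv, MulEquiv.symm_apply_apply] at this
      exact congrArg Subtype.val this

end CfsgLib.LargeReeSquare
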