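import Cfsg.Agent.Lib.LargeReeSquare.Levi
import Cfsg.Agent.Lib.LargeReeSquare.Suzuki

/-!
# An element of odd order covering `²F₄(q)`, `q ≥ 8`

The element is `z * k`: `z` in the torus with centraliser the second Levi group, `k` of order five in
that Levi group.
-/

set_option autoImplicit false
set_option linter.unusedSectionVars false

namespace CfsgLib.LargeReeSquare

open Cfsg.Lie CfsgLib.ChevStr CfsgLib.ChevStr.ChevCore CfsgLib.Twisted CfsgLib.TwistAut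
  CfsgLib.LargeReeAut CfsgLib.LargeReeMult
open scoped MatrixGroups

theorem pos_expand : ∀ r : Fin chevF4.nroots, rootDataF4.α r =
    rootDataF4.α r (nodeF4 0) • rootDataF4.α f4p1 + rootDataF4.α r (nodeF4 3) • rootDataF4.α f4p4 +
      (rootDataF4.α r (nodeF4 1) • rootDataF4.α f4a + rootDataF4.α r (nodeF4 2) • rootDataF4.α f4b) := by
  decide +kernel

theorem out_check : ∀ r : Fin chevF4.nroots, chevF4.IsPosRoot r →
    ¬ SuppIn rootDataF4 (nodesF4 1) r →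
    twoPow (2 * rootDataF4.α r (nodeF4 3) ^ 2 - rootDataF4.α r (nodeF4 0) ^ 2) = true := by
  decide +kernel

theorem levi_one_roots : ∀ r : Fin chevF4.nroots, SuppIn rootDataF4 (nodesF4 1) r →
    rootDataF4.α r (nodeF4 0) = 0 ∧ rootDataF4.α r (nodeF4 3) = 0 := by decide +kernel

universe u

variable {K : Type u} [Field K] [Fintype K] [CharP K 2] {m : ℕ}
  (hn : Fintype.card K = 2 * (2 ^ m * 2 ^ m)) (hm : 1 ≤ m)

include hn

theorem five_coprime : Nat.Coprime 5 (Fintype.card K - 1) := by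
  rw [Nat.Prime.coprime_iff_not_dvd (by norm_num)]
  rintro ⟨c, hc⟩
  have hsq : 2 ^ m * 2 ^ m = 4 ^ m := by rw [← mul_pow]; rfl
  rw [hn, hsq] at hc
  have h4 : 4 ^ m % 5 = 1 ∨ 4 ^ m % 5 = 4 := by
    clear hc hsq hn
    induction m with
    | zero => simp
    | succ k ih => rw [pow_succ, Nat.mul_mod]; rcases ih with h | h <;> rw [h] <;> simp
  have hpos : 1 ≤ 4 ^ m := Nat.one_le_pow _ _ (by norm_num)
  omega

theorem char_root {c : Fin chevF4.rank → Kˣ} (hc : (coreF4 K).R.torus c ∈ twistedF4 K (2 ^ m))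
    (hb : (coreF4 K).R.torusChar c ((coreF4 K).R.α f4b) = 1) (r : Fin chevF4.nroots) :
    (coreF4 K).R.torusChar c ((coreF4 K).R.α r) = (coreF4 K).R.torusChar c ((coreF4 K).R.α f4p4) ^
      (rootDataF4.α r (nodeF4 3) + rootDataF4.α r (nodeF4 0) * 2 ^ m) := by
  obtain ⟨hp, ha, -, -⟩ := torus_chars hn hc
  simp only at hp ha
  show (coreF4 K).R.torusChar c (rootDataF4.α r) = _
  conv_lhs => rw [pos_expand r]
  simp only [RootData.torusChar_add, RootData.torusChar_zsmul]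
  show (coreF4 K).R.torusChar c ((coreF4 K).R.α f4p1) ^ _ *
      (coreF4 K).R.torusChar c ((coreF4 K).R.α f4p4) ^ _ *
      ((coreF4 K).R.torusChar c ((coreF4 K).R.α f4a) ^ _ *
        (coreF4 K).R.torusChar c ((coreF4 K).R.α f4b) ^ _) = _
  rw [hp, ha, hb, one_pow, one_zpow, one_zpow, mul_one, mul_one, ← zpow_natCast _ (2 ^ m), ← zpow_mul,
    ← zpow_add]
  congr 1
  push_cast
  ring

/-- A torus element with `z`-part killing exactly the second Levi group. -/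
theorem no_fix {c : Fin chevF4.rank → Kˣ} (hc : (coreF4 K).R.torus c ∈ twistedF4 K (2 ^ m))
    (hb : (coreF4 K).R.torusChar c ((coreF4 K).R.α f4b) = 1)
    (hp : (coreF4 K).R.torusChar c ((coreF4 K).R.α f4p4) ≠ 1) {y : GL chevF4.Idx K}
    (hy : y ∈ outU (gensF4 K hn) 1)
    (he : (coreF4 K).R.torus c * y * ((coreF4 K).R.torus c)⁻¹ = y) : y = 1 := by
  have h := TwistSquare.fixed_Ucl (coreF4 K) (outRoots_closed (coreF4 K) _) c hy.1 he
  refine Subgroup.mem_bot.1 ((coreF4 K).Ucl_le (H := ⊥) (fun r hr _ => ?_) h)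
  exfalso
  obtain ⟨⟨hpos, hout⟩, h1⟩ := hr
  rw [char_root hn hc hb ⟨r, hpos.1⟩] at h1
  have hco := isCoprime_of_norm (card_sub_one hn).symm (out_check ⟨r, hpos.1⟩ hpos hout)
  obtain ⟨a, b, hab⟩ := hco
  set u := (coreF4 K).R.torusChar c ((coreF4 K).R.α f4p4)
  have hN : u ^ ((Fintype.card K : ℤ) - 1) = 1 := by
    rw [zpow_sub_one, zpow_natCast, mul_inv_eq_one]
    exact Units.ext (by rw [Units.val_pow_eq_pow_val, FiniteField.pow_card])
  apply hp
  calc u = u ^ (a * (rootDataF4.α r (nodeF4 3) + rootDataF4.α r (nodeF4 0) * 2 ^ m) +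
        b * ((Fintype.card K : ℤ) - 1)) := by rw [hab, zpow_one]
    _ = 1 := by rw [zpow_add, zpow_mul', zpow_mul', h1, hN, one_zpow, one_zpow, one_mul]

theorem levi_commute_z {c : Fin chevF4.rank → Kˣ} (hc : (coreF4 K).R.torus c ∈ twistedF4 K (2 ^ m))
    (hb : (coreF4 K).R.torusChar c ((coreF4 K).R.α f4b) = 1) {l : GL chevF4.Idx K}
    (hl : l ∈ leviGrp K m 1) : Commute ((coreF4 K).R.torus c) l := by
  have h : leviGrp K m 1 ≤ Subgroup.centralizer {(coreF4 K).R.torus c} := by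
    have key : ∀ r : ℕ, ∀ hr : r < chevF4.nroots, SuppIn rootDataF4 (nodesF4 1) r → ∀ x,
        (coreF4 K).xGL r x ∈ Subgroup.centralizer {(coreF4 K).R.torus c} := fun r hr hs x => by
      have h1 : (coreF4 K).R.torusChar c ((coreF4 K).R.α r) = 1 := by
        obtain ⟨e0, e3⟩ := levi_one_roots ⟨r, hr⟩ hs
        rw [show r = (⟨r, hr⟩ : Fin chevF4.nroots).val from rfl, char_root hn hc hb, e0, e3, zero_mul,
          add_zero, zpow_zero]
      have h2 := (coreF4 K).acts_torus c ⟨r, hr⟩ x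
      rw [h1, Units.val_one, one_mul] at h2
      exact Subgroup.mem_centralizer_iff.2 fun z hz => by
        rw [Set.mem_singleton_iff.1 hz]; exact mul_inv_eq_iff_eq_mul.1 h2
    exact sup_le (inf_le_left.trans ((coreF4 K).Ucl_le fun r hr x => key r hr.1.1 hr.2 x))
      (inf_le_left.trans ((coreF4 K).Ucl_le fun r hr x => key r hr.1.1 hr.2 x))
  exact Subgroup.mem_centralizer_iff.1 (h hl) _ rfl

include hm in
/-- Every element of `²F₄(q)` is a product of two conjugates of an element of odd order. -/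
theorem cover : ∃ x : ↥(twistedF4 K (2 ^ m)), Odd (orderOf x) ∧
    ∀ g : ↥(twistedF4 K (2 ^ m)), ∃ u v, g = (u * x * u⁻¹) * (v * x * v⁻¹) := by
  classical
  set g := gensF4 K hn
  obtain ⟨n0, hm0, hG0, w0, hmv0, hw0⟩ := exists_n0 hn
  have hq : 2 < Fintype.card K := by
    rw [hn]
    have : 2 ≤ 2 ^ m := Nat.le_self_pow (by omega) 2
    nlinarith
  obtain ⟨w, hw⟩ : ∃ w : Kˣ, w ≠ 1 := by
    have : Nontrivial Kˣ := by
      rw [← Finite.one_lt_card_iff_nontrivial, Nat.card_units, Nat.card_eq_fintype_card]; omega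
    exact exists_ne 1
  obtain ⟨c, hc, hcp, hcb⟩ := exists_torus hn w 1
  set z := (coreF4 K).R.torus c with hz
  obtain ⟨k, hk, hk5, hk1, hkclass, hkprod⟩ := exists_levi_five hn hm
  have hL : leviGrp K m 1 ≤ lev g 1 := levi_le_lev hn 1
  have hzk : Commute z k := levi_commute_z hn hc hcb hk
  have hzinv : n0 * z * n0⁻¹ = z⁻¹ := TwistSquare.conj_torus_inv (coreF4 K) hm0 hmv0 hw0 c
  -- fifth powers have no fixed points on the complement
  have fixU : ∀ k' ∈ leviGrp K m 1, k' ^ 5 = 1 → ∀ e : ℤ, e = 1 ∨ e = -1 → ∀ y ∈ outU g 1,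
      (z ^ e * k') * y * (z ^ e * k')⁻¹ = y → y = 1 := by
    intro k' hk' h5 e he y hy hfix
    have hcz : Commute (z ^ e * k') y := mul_inv_eq_iff_eq_mul.1 hfix
    have hpow : (z ^ e * k') ^ 5 = (coreF4 K).R.torus (c ^ (5 * e)) := by
      rw [((levi_commute_z hn hc hcb hk').zpow_left e).mul_pow, h5, mul_one, map_zpow, ← hz,
        ← zpow_natCast, ← zpow_mul, mul_comm]
      rfl
    have hfix5 := (hcz.pow_left 5).eq
    rw [hpow] at hfix5
    have hmem : (coreF4 K).R.torus (c ^ (5 * e)) ∈ twistedF4 K (2 ^ m) := by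
      rw [map_zpow]; exact zpow_mem hc _
    have hch : ∀ r, (coreF4 K).R.torusChar (c ^ (5 * e)) r = (coreF4 K).R.torusChar c r ^ (5 * e) :=
      fun r => map_zpow (MonoidHom.mk' (fun c => (coreF4 K).R.torusChar c r)
        (fun a b => (coreF4 K).R.torusChar_mul a b r)) c (5 * e)
    refine no_fix hn hmem (by rw [hch, hcb, one_zpow]) ?_ hy (mul_inv_eq_iff_eq_mul.2 hfix5)
    rw [hch, hcp]
    intro h
    apply hw
    have h5' : w ^ 5 = 1 := by
      rcases he with rfl | rfl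
      · exact_mod_cast h
      · rw [show (5 : ℤ) * -1 = -((5 : ℕ) : ℤ) by norm_num, zpow_neg, inv_eq_one, zpow_natCast] at h
        exact h
    have h1 : orderOf w ∣ 5 := orderOf_dvd_of_pow_eq_one h5'
    have h2 : orderOf w ∣ Fintype.card K - 1 := by
      rw [← Nat.card_eq_fintype_card (α := K), ← Nat.card_units]; exact orderOf_dvd_natCard w
    exact orderOf_eq_one_iff.1 (Nat.eq_one_of_dvd_coprimes (five_coprime hn) h1 h2)
  have normU : ∀ s ∈ lev g 1, ∀ y ∈ outU g 1, s * y * s⁻¹ ∈ outU g 1 := fun s hs y hy =>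
    lev_outU g 1 hs hy
  have normV : ∀ s ∈ lev g 1, ∀ y ∈ outV g n0 1, s * y * s⁻¹ ∈ outV g n0 1 := fun s hs y hy =>
    lev_outV g hm0 hG0 hmv0 hw0 1 hs hy
  have hzT : z ∈ tor (twistedF4 K (2 ^ m)) := ⟨(coreF4 K).diagonalSubgroup_eq ▸ ⟨c, rfl⟩, hc⟩
  have hzlev : z ∈ lev g 1 := tor_le_lev g 1 hzT
  -- `n0` preserves the Levi group
  have hn0L : ∀ l ∈ leviGrp K m 1, n0⁻¹ * l * n0 ∈ leviGrp K m 1 ∧ n0 * l * n0⁻¹ ∈ leviGrp K m 1 := by
    intro l hl
    have h1 : leviGrp K m 1 ≤ (leviGrp K m 1).comap (MulAut.conj n0).toMonoidHom :=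
      sup_le (fun x hx => Subgroup.mem_sup_right (n0_pX g hm0 hG0 hmv0 hw0 1 hx).1)
        (fun x hx => Subgroup.mem_sup_left (n0_nX g hm0 hG0 hmv0 hw0 1 hx).1)
    have h2 : leviGrp K m 1 ≤ (leviGrp K m 1).comap (MulAut.conj n0⁻¹).toMonoidHom :=
      sup_le (fun x hx => by
          show (MulAut.conj n0⁻¹) x ∈ leviGrp K m 1
          rw [MulAut.conj_apply, inv_inv]
          exact Subgroup.mem_sup_right (n0_pX g hm0 hG0 hmv0 hw0 1 hx).2)
        (fun x hx => by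
          show (MulAut.conj n0⁻¹) x ∈ leviGrp K m 1
          rw [MulAut.conj_apply, inv_inv]
          exact Subgroup.mem_sup_left (n0_nX g hm0 hG0 hmv0 hw0 1 hx).2)
    have h := h2 hl
    change (MulAut.conj n0⁻¹) l ∈ leviGrp K m 1 at h
    rw [MulAut.conj_apply, inv_inv] at h
    exact ⟨h, h1 hl⟩
  obtain ⟨c0, hc0, hc0e⟩ := hkclass _ (hn0L k hk).2
    (by rw [conj_pow, hk5, mul_one, mul_inv_cancel]) fun e => hk1 (conj_eq_one_iff.1 e)
  let X : ↥(twistedF4 K (2 ^ m)) := ⟨z * k, mul_mem hc (leviGrp_le hn 1 hk)⟩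
  refine ⟨X, ?_, fun G => ?_⟩
  · have hodd : Odd (5 * (Fintype.card K - 1)) := by
      refine Nat.odd_mul.2 ⟨by decide, ?_⟩
      have h2 : Even (Fintype.card K) := by rw [hn]; exact even_two_mul _
      exact Nat.Even.sub_odd (by omega) h2 odd_one
    refine Odd.of_dvd_nat hodd (orderOf_dvd_of_pow_eq_one (Subtype.ext ?_))
    show (z * k) ^ (5 * (Fintype.card K - 1)) = 1
    rw [hzk.mul_pow, pow_mul k, hk5, one_pow, mul_one, mul_comm, pow_mul, hz, ← map_pow,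
      show c ^ (Fintype.card K - 1) = 1 from funext fun j => Units.ext (by
        rw [Pi.pow_apply, Units.val_pow_eq_pow_val]
        exact FiniteField.pow_card_sub_one_eq_one _ (Units.ne_zero _)), map_one, one_pow]
  obtain ⟨h, -, hhL, a, ha, v, hv, u, hu, e⟩ := exists_gauss_one hn (x := (G : GL chevF4.Idx K)) G.2
  obtain ⟨y, hy, v0, hv0, rfl⟩ := low_split g hm0 hG0 hmv0 hw0 1 hv
  obtain ⟨b, hb, u0, hu0, rfl⟩ := upper_split g 1 hu
  have hl : y * h * b ∈ leviGrp K m 1 :=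
    mul_mem (mul_mem (Subgroup.mem_sup_right hy) hhL) (Subgroup.mem_sup_left hb)
  obtain ⟨l1, hl1, l2, hl2, el⟩ := hkprod _ hl
  set ka := l1 * k * l1⁻¹ with hka
  set kb := l2 * k * l2⁻¹ with hkb
  have hkaL : ka ∈ leviGrp K m 1 := mul_mem (mul_mem hl1 hk) (inv_mem hl1)
  have hkbL : kb ∈ leviGrp K m 1 := mul_mem (mul_mem hl2 hk) (inv_mem hl2)
  set v' := y * v0 * y⁻¹ with hv'
  have hv'm : v' ∈ outV g n0 1 := normV y (nX_le_lev g 1 hy) v0 hv0
  have fixV : ∀ t ∈ outV g n0 1, (z * ka) * t * (z * ka)⁻¹ = t → t = 1 := by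
    intro t ht hfix
    have h1 := fixU (n0⁻¹ * ka * n0) (hn0L ka hkaL).1 (by
      rw [show n0⁻¹ * ka * n0 = (n0⁻¹ * l1) * k * (n0⁻¹ * l1)⁻¹ by rw [hka]; group, conj_pow, hk5,
        mul_one, mul_inv_cancel]) (-1) (Or.inr rfl) _ ((mem_outV g).1 ht) (by
      have hz' : n0⁻¹ * z * n0 = z ^ (-1 : ℤ) := by
        rw [zpow_neg_one]
        calc n0⁻¹ * z * n0 = n0⁻¹ * (n0 * z * n0⁻¹)⁻¹ * n0 := by rw [hzinv, inv_inv]
          _ = _ := by group
      rw [← hz']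
      calc (n0⁻¹ * z * n0) * (n0⁻¹ * ka * n0) * (n0⁻¹ * t * n0) *
            ((n0⁻¹ * z * n0) * (n0⁻¹ * ka * n0))⁻¹ = n0⁻¹ * ((z * ka) * t * (z * ka)⁻¹) * n0 := by group
        _ = _ := by rw [hfix])
    calc t = n0 * (n0⁻¹ * t * n0) * n0⁻¹ := by group
      _ = 1 := by rw [h1]; group
  have fixW : ∀ t ∈ outU g 1, (z⁻¹ * kb) * t * (z⁻¹ * kb)⁻¹ = t → t = 1 := fun t ht hfix =>
    fixU kb hkbL (by rw [hkb, conj_pow, hk5, mul_one, mul_inv_cancel]) (-1) (Or.inr rfl) t ht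
      (by rwa [zpow_neg_one])
  have : Finite ↥(outV g n0 1) := inferInstance
  obtain ⟨w1, hw1, e1⟩ := (TwistSquare.coset_conj (N := outV g n0 1)
    (normV _ (mul_mem hzlev (hL hkaL))) fixV).1 v' hv'm
  obtain ⟨w2, hw2, e2⟩ := (TwistSquare.coset_conj (N := outU g 1)
    (normU _ (mul_mem (inv_mem hzlev) (hL hkbL))) fixW).2 u0 hu0
  have hw1G : w1 ∈ twistedF4 K (2 ^ m) := (outV_le g hm0 hG0 hmv0 hw0 1 hw1).2
  have hw2G : w2 ∈ twistedF4 K (2 ^ m) := (outU_le g 1 hw2).2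
  have hzl : ∀ l ∈ leviGrp K m 1, Commute z l := fun l hl => levi_commute_z hn hc hcb hl
  have eA : z * ka = l1 * (z * k) * l1⁻¹ := by
    rw [hka, show l1 * (z * k) * l1⁻¹ = (l1 * z) * k * l1⁻¹ by group, ← (hzl l1 hl1).eq]; group
  have eB : z⁻¹ * kb = (l2 * c0⁻¹ * n0) * (z * k) * (l2 * c0⁻¹ * n0)⁻¹ := by
    have h1 : n0 * (z * k) * n0⁻¹ = z⁻¹ * (c0 * k * c0⁻¹) := by rw [← hzinv, ← hc0e]; group
    rw [show (l2 * c0⁻¹ * n0) * (z * k) * (l2 * c0⁻¹ * n0)⁻¹ =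
      (l2 * c0⁻¹) * (n0 * (z * k) * n0⁻¹) * (l2 * c0⁻¹)⁻¹ by group, h1,
      show (l2 * c0⁻¹) * (z⁻¹ * (c0 * k * c0⁻¹)) * (l2 * c0⁻¹)⁻¹ =
        ((l2 * c0⁻¹) * z⁻¹) * c0 * k * l2⁻¹ by group,
      ← ((hzl _ (mul_mem hl2 (inv_mem hc0))).inv_left).eq, hkb]
    group
  refine ⟨⟨a⁻¹ * w1 * l1, mul_mem (mul_mem (inv_mem ha) hw1G) (leviGrp_le hn 1 hl1)⟩,
    ⟨a⁻¹ * w2 * (l2 * c0⁻¹ * n0), mul_mem (mul_mem (inv_mem ha) hw2G)
      (mul_mem (mul_mem (leviGrp_le hn 1 hl2) (inv_mem (leviGrp_le hn 1 hc0))) hG0)⟩, Subtype.ext ?_⟩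
  show (G : GL chevF4.Idx K) = (a⁻¹ * w1 * l1) * (z * k) * (a⁻¹ * w1 * l1)⁻¹ *
    ((a⁻¹ * w2 * (l2 * c0⁻¹ * n0)) * (z * k) * (a⁻¹ * w2 * (l2 * c0⁻¹ * n0))⁻¹)
  have hmain : y * v0 * h * (b * u0) = (v' * (z * ka)) * ((z⁻¹ * kb) * u0) := by
    have hza : z * ka = ka * z := (hzl ka hkaL).eq
    calc y * v0 * h * (b * u0) = v' * (y * h * b) * u0 := by rw [hv']; group
      _ = v' * (ka * kb) * u0 := by rw [el]
      _ = v' * (ka * z) * (z⁻¹ * kb) * u0 := by group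
      _ = _ := by rw [← hza]; group
  calc (G : GL chevF4.Idx K) = a⁻¹ * (a * G * a⁻¹) * a := by group
    _ = a⁻¹ * ((v' * (z * ka)) * ((z⁻¹ * kb) * u0)) * a := by rw [e, hmain]
    _ = _ := by rw [e1, e2, eA, eB]; group

end CfsgLib.LargeReeSquare
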